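import Groth.Agent.Lib.LocProp.AtPrime
import Mathlib.AlgebraicGeometry.Morphisms.Smooth
import Mathlib.AlgebraicGeometry.Morphisms.Etale
import Mathlib.AlgebraicGeometry.Morphisms.FormallyUnramified

/-!
# Morphisms smooth, étale or unramified near a point, in terms of the map of stalks
-/

namespace GrothLib.LocProp

open AlgebraicGeometry CategoryTheory

universe u

variable {X Y : Scheme.{u}}

set_option backward.isDefEq.respectTransparency false in
theorem stalkMap_comp_ι_iff {Q : ∀ {R S : Type u} [CommRing R] [CommRing S], (R →+* S) → Prop}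
    (hQ : RingHom.RespectsIso Q) {U : Scheme.{u}} (j : U ⟶ X) [IsOpenImmersion j] (f : X ⟶ Y)
    (x : U) : Q ((j ≫ f).stalkMap x).hom ↔ Q (f.stalkMap (j x)).hom := by
  rw [Scheme.Hom.stalkMap_comp, CommRingCat.hom_comp]
  exact hQ.cancel_right_isIso _ (j.stalkMap x)

theorem exists_nhd_of_appLE {P : MorphismProperty Scheme.{u}}
    {Q : ∀ {R S : Type u} [CommRing R] [CommRing S], (R →+* S) → Prop}
    [HasRingHomProperty P Q] [P.IsStableUnderComposition] (hopen : ∀ {A B : Scheme.{u}} (j : A ⟶ B)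
      [IsOpenImmersion j], P j) (f : X ⟶ Y) (U : Y.Opens) (hU : IsAffineOpen U) (V : X.Opens)
    (hV : IsAffineOpen V) (e : V ≤ f ⁻¹ᵁ U) (h : Q (f.appLE U V e).hom) : P (V.ι ≫ f) := by
  have : IsAffine _ := hU
  have : IsAffine _ := hV
  have h1 : P (f.resLE U V e) := by
    rw [HasRingHomProperty.iff_of_isAffine (P := P)]
    exact ((HasRingHomProperty.isLocal_ringHomProperty P).respectsIso.arrow_mk_iso_iff
      (arrowResLEAppIso f U V e)).mpr h
  rw [← Scheme.Hom.resLE_comp_ι f e]
  exact P.comp_mem _ _ h1 (hopen _)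

/-- Restriction of the smooth criterion to charts. -/
theorem smooth_nhd_iff (f : X ⟶ Y) [LocallyOfFinitePresentation f] (x : X) :
    (∃ U : X.Opens, x ∈ U ∧ Smooth (U.ι ≫ f)) ↔ x ∈ f.smoothLocus := by
  constructor
  · rintro ⟨U, hxU, h⟩
    have := (U.ι ≫ f).smoothLocus_eq_top
    rw [← Scheme.Hom.preimage_smoothLocus_eq] at this
    exact this.ge (Set.mem_univ (⟨x, hxU⟩ : (U : Scheme.{u})))
  · intro h
    obtain ⟨U, hU, V, hV, e, hxV, hsm⟩ := exists_smooth_of_formallySmooth_stalk f x h
    exact ⟨V, hxV, exists_nhd_of_appLE (P := @Smooth) (fun _ ↦ inferInstance) f U hU V hV e hsm⟩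

set_option backward.defeqAttrib.useBackward true in
set_option backward.isDefEq.respectTransparency false in
/-- Unramified near a point iff the stalk map is formally unramified. -/
theorem formallyUnramified_nhd_iff (f : X ⟶ Y) [LocallyOfFiniteType f] (x : X) :
    (∃ U : X.Opens, x ∈ U ∧ FormallyUnramified (U.ι ≫ f)) ↔
      (f.stalkMap x).hom.FormallyUnramified := by
  constructor
  · rintro ⟨U, hxU, h⟩
    have := FormallyUnramified.stalkMap (U.ι ≫ f) ⟨x, hxU⟩
    exact (stalkMap_comp_ι_iff RingHom.FormallyUnramified.respectsIso U.ι f ⟨x, hxU⟩).mp this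
  · intro H
    obtain ⟨_, ⟨U, hU, rfl⟩, hxU, -⟩ :=
      Y.isBasis_affineOpens.exists_subset_of_mem_open (Set.mem_univ (f x)) isOpen_univ
    obtain ⟨_, ⟨V, hV, rfl⟩, hxV, hVU⟩ :=
      X.isBasis_affineOpens.exists_subset_of_mem_open hxU (U.2.preimage f.continuous)
    have hft := f.finiteType_appLE hU hV hVU
    algebraize [(f.appLE U V hVU).hom]
    let p := (hU.primeIdealOf ⟨f x, hVU hxV⟩).asIdeal
    let q := (hV.primeIdealOf ⟨x, hxV⟩).asIdeal
    have : q.LiesOver p :=
      ⟨congr($(IsAffineOpen.comap_primeIdealOf_appLE U hU V hV hVU hxV).1).symm⟩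
    let := Localization.AtPrime.algebraOfLiesOver p q
    have h1 : Algebra.FormallyUnramified (Localization.AtPrime p) (Localization.AtPrime q) := by
      rw [← RingHom.formallyUnramified_algebraMap]
      exact (RingHom.FormallyUnramified.respectsIso.arrow_mk_iso_iff
        (IsAffineOpen.arrowStalkMapIso f U hU V hV hVU hxV)).mp H
    have : Algebra.IsUnramifiedAt Γ(Y, U) q :=
      Algebra.FormallyUnramified.comp _ (Localization.AtPrime p) _
    obtain ⟨r, hrx, hr⟩ := Algebra.exists_formallyUnramified_of_isUnramifiedAt (R := Γ(Y, U)) q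
    refine ⟨X.basicOpen r, ?_, exists_nhd_of_appLE (P := @FormallyUnramified)
      (fun _ ↦ inferInstance) f U hU _ (hV.basicOpen r) ((X.basicOpen_le r).trans hVU) ?_⟩
    · rwa [← PrimeSpectrum.mem_basicOpen, IsAffineOpen.primeIdealOf,
        ← hV.fromSpec_preimage_basicOpen, Scheme.Hom.mem_preimage, ← Scheme.Hom.comp_apply,
        IsAffineOpen.isoSpec_hom, IsAffineOpen.toSpecΓ_fromSpec] at hrx
    · have := hV.isLocalization_basicOpen r
      rw [← RingHom.formallyUnramified_algebraMap] at hr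
      convert! RingHom.FormallyUnramified.respectsIso.1 _
        (IsLocalization.algEquiv (.powers r) _ Γ(X, X.basicOpen r)).toRingEquiv hr
      ext
      dsimp
      simp only [IsScalarTower.algebraMap_apply Γ(Y, U) Γ(X, V) (Localization _),
        IsLocalization.map_eq]
      simp only [RingHom.algebraMap_toAlgebra, RingHomCompTriple.comp_apply,
        ← ConcreteCategory.comp_apply, Scheme.Hom.appLE_map]

/-- Étale near a point iff the stalk map is flat and formally unramified. -/
theorem etale_nhd_iff (f : X ⟶ Y) [LocallyOfFinitePresentation f] (x : X) :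
    (∃ U : X.Opens, x ∈ U ∧ Etale (U.ι ≫ f)) ↔
      (f.stalkMap x).hom.Flat ∧ (f.stalkMap x).hom.FormallyUnramified := by
  constructor
  · rintro ⟨U, hxU, h⟩
    refine ⟨?_, (formallyUnramified_nhd_iff f x).mp ⟨U, hxU, inferInstance⟩⟩
    exact (stalkMap_comp_ι_iff RingHom.Flat.respectsIso U.ι f ⟨x, hxU⟩).mp
      (Flat.stalkMap (U.ι ≫ f) ⟨x, hxU⟩)
  · rintro ⟨hflat, H⟩
    obtain ⟨U₁, hxU₁, h₁⟩ := (formallyUnramified_nhd_iff f x).mpr H
    have hsm : x ∈ f.smoothLocus := by
      obtain ⟨_, ⟨U, hU, rfl⟩, hxU, -⟩ :=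
        Y.isBasis_affineOpens.exists_subset_of_mem_open (Set.mem_univ (f x)) isOpen_univ
      obtain ⟨_, ⟨V, hV, rfl⟩, hxV, hVU⟩ :=
        X.isBasis_affineOpens.exists_subset_of_mem_open hxU (U.2.preimage f.continuous)
      have hfp := f.finitePresentation_appLE hU hV hVU
      algebraize [(f.appLE U V hVU).hom]
      let p := (hU.primeIdealOf ⟨f x, hVU hxV⟩).asIdeal
      let q := (hV.primeIdealOf ⟨x, hxV⟩).asIdeal
      have : q.LiesOver p :=
        ⟨congr($(IsAffineOpen.comap_primeIdealOf_appLE U hU V hV hVU hxV).1).symm⟩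
      let := Localization.AtPrime.algebraOfLiesOver p q
      have h1 : Algebra.FormallyUnramified (Localization.AtPrime p) (Localization.AtPrime q) := by
        rw [← RingHom.formallyUnramified_algebraMap]
        exact (RingHom.FormallyUnramified.respectsIso.arrow_mk_iso_iff
          (IsAffineOpen.arrowStalkMapIso f U hU V hV hVU hxV)).mp H
      have : Module.Flat (Localization.AtPrime p) (Localization.AtPrime q) := by
        rw [← RingHom.flat_algebraMap_iff]
        exact (RingHom.Flat.respectsIso.arrow_mk_iso_iff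
          (IsAffineOpen.arrowStalkMapIso f U hU V hV hVU hxV)).mp hflat
      have : Algebra.IsUnramifiedAt Γ(Y, U) q :=
        Algebra.FormallyUnramified.comp _ (Localization.AtPrime p) _
      have h2 := isEtaleAt_of_isUnramifiedAt_of_flat (R := Γ(Y, U)) p q
      rw [Scheme.Hom.mem_smoothLocus, formallySmooth_stalkMap_iff U hU V hV hVU hxV]
      exact (Algebra.FormallyEtale.iff_formallyUnramified_and_formallySmooth.mp h2).2
    obtain ⟨U₂, hxU₂, h₂⟩ := (smooth_nhd_iff f x).mpr hsm
    refine ⟨U₁ ⊓ U₂, ⟨hxU₁, hxU₂⟩, ?_⟩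
    have e₁ : (U₁ ⊓ U₂).ι ≫ f = X.homOfLE inf_le_left ≫ U₁.ι ≫ f := by simp
    have e₂ : (U₁ ⊓ U₂).ι ≫ f = X.homOfLE inf_le_right ≫ U₂.ι ≫ f := by simp
    have : Smooth ((U₁ ⊓ U₂).ι ≫ f) := e₂ ▸ inferInstance
    have : FormallyUnramified ((U₁ ⊓ U₂).ι ≫ f) := e₁ ▸
      MorphismProperty.comp_mem _ _ _ inferInstance h₁
    exact Etale.of_formallyUnramified_of_flat _

/-- Finite type morphisms to locally noetherian schemes are of finite presentation. -/
theorem locallyOfFinitePresentation_of_isLocallyNoetherian (f : X ⟶ Y) [IsLocallyNoetherian Y]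
    [LocallyOfFiniteType f] : LocallyOfFinitePresentation f := by
  infer_instance

end GrothLib.LocProp
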