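import Groth.Agent.Lib.LocProp.SmoothDescendFlat
import Groth.Agent.Lib.LocProp.Stalk
import Mathlib.AlgebraicGeometry.Morphisms.Smooth

/-!
# Smoothness descends along maps flat at a point: schemes
-/

namespace GrothLib.LocProp

open AlgebraicGeometry CategoryTheory

universe u

set_option backward.isDefEq.respectTransparency false in
/-- The image of a smooth point under a map flat at it is a smooth point. -/
theorem mem_smoothLocus_descends {X Y S : Scheme.{u}} (g : X ⟶ Y) (f : Y ⟶ S)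
    [LocallyOfFinitePresentation f] [LocallyOfFinitePresentation (g ≫ f)] (x : X)
    (hg : (g.stalkMap x).hom.Flat) (hx : x ∈ (g ≫ f).smoothLocus) : g x ∈ f.smoothLocus := by
  obtain ⟨_, ⟨U, hU, rfl⟩, hxU, -⟩ :=
    S.isBasis_affineOpens.exists_subset_of_mem_open (Set.mem_univ (f (g x))) isOpen_univ
  obtain ⟨_, ⟨V, hV, rfl⟩, hxV, hVU⟩ :=
    Y.isBasis_affineOpens.exists_subset_of_mem_open hxU (U.2.preimage f.continuous)
  obtain ⟨_, ⟨W, hW, rfl⟩, hxW, hWV⟩ :=
    X.isBasis_affineOpens.exists_subset_of_mem_open (show x ∈ g ⁻¹ᵁ V from hxV)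
      (V.2.preimage g.continuous)
  have hWU : W ≤ (g ≫ f) ⁻¹ᵁ U := fun y hy ↦ hVU (hWV hy)
  rw [Scheme.Hom.mem_smoothLocus, formallySmooth_stalkMap_iff U hU W hW hWU hxW] at hx
  rw [Scheme.Hom.mem_smoothLocus, formallySmooth_stalkMap_iff U hU V hV hVU hxV]
  let _ : Algebra Γ(S, U) Γ(Y, V) := (f.appLE U V hVU).hom.toAlgebra
  let _ : Algebra Γ(Y, V) Γ(X, W) := (g.appLE V W hWV).hom.toAlgebra
  let _ : Algebra Γ(S, U) Γ(X, W) := ((g ≫ f).appLE U W hWU).hom.toAlgebra
  have : IsScalarTower Γ(S, U) Γ(Y, V) Γ(X, W) := .of_algebraMap_eq' <| by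
    show ((g ≫ f).appLE U W hWU).hom = (g.appLE V W hWV).hom.comp (f.appLE U V hVU).hom
    rw [← CommRingCat.hom_comp, Scheme.Hom.appLE_comp_appLE]
  have : Algebra.FinitePresentation Γ(S, U) Γ(Y, V) := f.finitePresentation_appLE hU hV hVU
  have : Algebra.FinitePresentation Γ(S, U) Γ(X, W) :=
    (g ≫ f).finitePresentation_appLE hU hW hWU
  set qC := (hW.primeIdealOf ⟨x, hxW⟩).asIdeal
  set q := (hV.primeIdealOf ⟨g x, hxV⟩).asIdeal
  have : Algebra.IsSmoothAt Γ(S, U) qC := hx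
  have hq : qC.LiesOver q :=
    ⟨congr($(IsAffineOpen.comap_primeIdealOf_appLE V hV W hW hWV hxW).1).symm⟩
  let := Localization.AtPrime.algebraOfLiesOver q qC
  have h1 : (algebraMap (Localization.AtPrime q) (Localization.AtPrime qC)).Flat :=
    (RingHom.Flat.respectsIso.arrow_mk_iso_iff
      (IsAffineOpen.arrowStalkMapIso g V hV W hW hWV hxW)).mp hg
  rw [RingHom.flat_algebraMap_iff] at h1
  have h2 : Module.Flat Γ(Y, V) (Localization.AtPrime qC) := .trans _ (Localization.AtPrime q) _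
  have h3 := isSmoothAt_descends (A := Γ(S, U)) (B := Γ(Y, V)) qC h2
  have key : ∀ (I : Ideal Γ(Y, V)) [I.IsPrime], I = q → Algebra.IsSmoothAt Γ(S, U) I →
      Algebra.IsSmoothAt Γ(S, U) q := by
    rintro I _ rfl h; exact h
  exact key _ hq.over.symm h3

end GrothLib.LocProp
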