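import Groth.Agent.Lib.LocProp.SmoothDescent
import Groth.Agent.Lib.LocProp.Stalk
import Mathlib.AlgebraicGeometry.Morphisms.Smooth
import Mathlib.AlgebraicGeometry.Morphisms.FormallyUnramified
import Mathlib.AlgebraicGeometry.PullbackCarrier

/-!
# Descent of smoothness and étaleness along base change flat at a point
-/

namespace GrothLib.LocProp

open AlgebraicGeometry CategoryTheory Limits IsLocalRing AlgebraicGeometry.Scheme
open scoped TensorProduct

universe u

theorem nhd_of_isPullback {W : MorphismProperty Scheme.{u}} [W.IsStableUnderBaseChange]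
    {P X Z Y : Scheme.{u}} {m : P ⟶ X} {s' : P ⟶ Z} {s : X ⟶ Y} {j : Z ⟶ Y}
    (h : IsPullback m s' s j) (z : P) (hz : ∃ U : X.Opens, m z ∈ U ∧ W (U.ι ≫ s)) :
    ∃ U : P.Opens, z ∈ U ∧ W (U.ι ≫ s') := by
  obtain ⟨U, hzU, hU⟩ := hz
  refine ⟨m ⁻¹ᵁ U, hzU, ?_⟩
  exact MorphismProperty.of_isPullback ((isPullback_morphismRestrict m U).paste_vert h) hU

variable {X Y Y' : Scheme.{u}}

set_option backward.isDefEq.respectTransparency false in
set_option maxHeartbeats 1000000 in
/-- Chart at a point of a base change whose image is flat over the base: the stalk properties of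
the projection can be read on a tensor product and descend. -/
theorem exists_chart_descend (f : X ⟶ Y) [LocallyOfFinitePresentation f] (g : Y' ⟶ Y)
    (x' : ↑(pullback f g)) (hg : (g.stalkMap (pullback.snd f g x')).hom.Flat) :
    ∃ (P : Scheme.{u}) (_ : LocallyOfFinitePresentation f) (s : P ⟶ Spec (Y'.presheaf.stalk (pullback.snd f g x')))
      (_ : LocallyOfFinitePresentation s) (m : P ⟶ pullback f g) (z : P),
      IsPullback m s (pullback.snd f g) (Y'.fromSpecStalk _) ∧ m z = x' ∧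
      ((s.stalkMap z).hom.FormallySmooth →
        (f.stalkMap (pullback.fst f g x')).hom.FormallySmooth) ∧
      ((s.stalkMap z).hom.FormallyUnramified →
        (f.stalkMap (pullback.fst f g x')).hom.FormallyUnramified) := by
  set y' := pullback.snd f g x'
  set x := pullback.fst f g x'
  set T := Y'.presheaf.stalk y'
  have hfx : f x = g y' := by
    rw [← Scheme.Hom.comp_apply, pullback.condition, Scheme.Hom.comp_apply]
  obtain ⟨_, ⟨U, hU, rfl⟩, hxU, -⟩ :=
    Y.isBasis_affineOpens.exists_subset_of_mem_open (Set.mem_univ (f x)) isOpen_univ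
  obtain ⟨_, ⟨V, hV, rfl⟩, hxV, hVU⟩ :=
    X.isBasis_affineOpens.exists_subset_of_mem_open hxU (U.2.preimage f.continuous)
  have hfp := f.finitePresentation_appLE hU hV hVU
  have hyU : g y' ∈ U := hfx ▸ hxU
  let φT : Γ(Y, U) ⟶ T := Y.presheaf.germ U (g y') hyU ≫ g.stalkMap y'
  let φB : Γ(Y, U) ⟶ Γ(X, V) := f.appLE U V hVU
  let _ : Algebra Γ(Y, U) T := φT.hom.toAlgebra
  let _ : Algebra Γ(Y, U) Γ(X, V) := φB.hom.toAlgebra
  have : Algebra.FinitePresentation Γ(Y, U) Γ(X, V) := hfp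
  have hflatT : Module.Flat Γ(Y, U) T := by
    let _ : Algebra Γ(Y, U) (Y.presheaf.stalk (g y')) :=
      (Y.presheaf.germ U (g y') hyU).hom.toAlgebra
    have := hU.isLocalization_stalk ⟨g y', hyU⟩
    have h1 : Module.Flat Γ(Y, U) (Y.presheaf.stalk (g y')) :=
      IsLocalization.flat _ (hU.primeIdealOf ⟨g y', hyU⟩).asIdeal.primeCompl
    have h1' : (Y.presheaf.germ U (g y') hyU).hom.Flat := h1
    exact RingHom.Flat.comp h1' hg
  set j := Y'.fromSpecStalk y'
  have hjg : Spec.map φT ≫ hU.fromSpec = j ≫ g := by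
    rw [← Scheme.SpecMap_stalkMap_fromSpecStalk g, ← hU.fromSpecStalk_eq_fromSpecStalk hyU,
      IsAffineOpen.fromSpecStalk, Spec.map_comp, Category.assoc]
  have hBf : Spec.map φB ≫ hU.fromSpec = hV.fromSpec ≫ f :=
    IsAffineOpen.SpecMap_appLE_fromSpec f hU hV hVU
  -- the base change to the local ring at `y'`
  have hP := IsPullback.of_right' (IsPullback.of_hasPullback (j ≫ g) f).flip
    (IsPullback.of_hasPullback f g)
  set m := (IsPullback.of_hasPullback f g).lift (pullback.snd (j ≫ g) f)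
    (pullback.fst (j ≫ g) f ≫ j) (by
      rw [Category.assoc]; exact (pullback.condition (f := j ≫ g) (g := f)).symm) with hm
  obtain ⟨z, hz1, hz2⟩ := Scheme.exists_preimage_of_isPullback hP x' (closedPoint T)
    Scheme.fromSpecStalk_closedPoint.symm
  -- the affine chart
  let i : Spec (.of (T ⊗[Γ(Y, U)] Γ(X, V))) ⟶ pullback (j ≫ g) f :=
    (pullbackSpecIso Γ(Y, U) T Γ(X, V)).inv ≫
      pullback.map (Spec.map φT) (Spec.map φB) (j ≫ g) f (𝟙 _) hV.fromSpec hU.fromSpec
        (by rw [hjg, Category.id_comp]) hBf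
  have hi2 : i ≫ pullback.fst (j ≫ g) f =
      Spec.map (CommRingCat.ofHom (algebraMap T (T ⊗[Γ(Y, U)] Γ(X, V)))) := by
    simp only [i, Category.assoc, pullback.lift_fst, Category.comp_id]
    exact pullbackSpecIso_inv_fst' ..
  have hi1 : i ≫ pullback.snd (j ≫ g) f =
      Spec.map (CommRingCat.ofHom (Algebra.TensorProduct.includeRight :
        Γ(X, V) →ₐ[Γ(Y, U)] T ⊗[Γ(Y, U)] Γ(X, V)).toRingHom) ≫ hV.fromSpec := by
    simp only [i, Category.assoc, pullback.lift_snd]
    exact pullbackSpecIso_inv_snd_assoc ..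
  have hfst : pullback.snd (j ≫ g) f z = x := by
    have := congrArg (fun k ↦ k z) ((IsPullback.of_hasPullback f g).lift_fst
      (pullback.snd (j ≫ g) f) (pullback.fst (j ≫ g) f ≫ j) (by
        rw [Category.assoc]; exact (pullback.condition (f := j ≫ g) (g := f)).symm))
    simp only [Scheme.Hom.comp_apply] at this
    rw [← this, hz1]
  obtain ⟨Q, hQ⟩ : ∃ Q, i Q = z := by
    have hr : z ∈ Set.range (pullback.map (Spec.map φT) (Spec.map φB) (j ≫ g) f (𝟙 _) hV.fromSpec
        hU.fromSpec (by rw [hjg, Category.id_comp]) hBf) := by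
      rw [Scheme.Pullback.range_map]
      refine ⟨⟨pullback.fst (j ≫ g) f z, rfl⟩, ?_⟩
      show pullback.snd (j ≫ g) f z ∈ Set.range hV.fromSpec
      rw [hfst, hV.range_fromSpec]
      exact hxV
    obtain ⟨w, hw⟩ := hr
    refine ⟨(pullbackSpecIso Γ(Y, U) T Γ(X, V)).hom w, ?_⟩
    simp only [i, Scheme.Hom.comp_apply]
    rw [← hw]
    congr 1
    rw [← Scheme.Hom.comp_apply, Iso.hom_inv_id]
    rfl
  have hq : PrimeSpectrum.comap (Algebra.TensorProduct.includeRight :
      Γ(X, V) →ₐ[Γ(Y, U)] T ⊗[Γ(Y, U)] Γ(X, V)).toRingHom Q = hV.primeIdealOf ⟨x, hxV⟩ := by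
    apply hV.fromSpec.isOpenEmbedding.injective
    rw [hV.fromSpec_primeIdealOf]
    have := congrArg (fun k ↦ k Q) hi1
    simp only [Scheme.Hom.comp_apply, hQ, hfst] at this
    exact this.symm
  refine ⟨_, ‹_›, pullback.fst (j ≫ g) f, inferInstance, m, z, hP, hz1, fun hs ↦ ?_, fun hs ↦ ?_⟩
  · rw [← hQ, ← stalkMap_comp_ι_iff RingHom.FormallySmooth.respectsIso i, hi2] at hs
    have hsm : Algebra.IsSmoothAt T Q.asIdeal := by
      let p := Q.comap (algebraMap T (T ⊗[Γ(Y, U)] Γ(X, V)))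
      have : Q.asIdeal.LiesOver p.asIdeal := ⟨rfl⟩
      let := Localization.AtPrime.algebraOfLiesOver p.asIdeal Q.asIdeal
      have h1 : Algebra.FormallySmooth (Localization.AtPrime p.asIdeal)
          (Localization.AtPrime Q.asIdeal) := by
        rw [← RingHom.formallySmooth_algebraMap]
        exact (RingHom.FormallySmooth.respectsIso.arrow_mk_iso_iff
          (Scheme.arrowStalkMapSpecIso _ Q)).mp hs
      exact Algebra.FormallySmooth.iff_restrictScalars.mpr h1
    rw [formallySmooth_stalkMap_iff U hU V hV hVU hxV, ← hq]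
    exact isSmoothAt_of_baseChange Γ(Y, U) T Γ(X, V) Q.asIdeal hsm
  · rw [← hQ, ← stalkMap_comp_ι_iff RingHom.FormallyUnramified.respectsIso i, hi2] at hs
    have hun : Algebra.IsUnramifiedAt T Q.asIdeal := by
      let p := Q.comap (algebraMap T (T ⊗[Γ(Y, U)] Γ(X, V)))
      have : Q.asIdeal.LiesOver p.asIdeal := ⟨rfl⟩
      let := Localization.AtPrime.algebraOfLiesOver p.asIdeal Q.asIdeal
      have h1 : Algebra.FormallyUnramified (Localization.AtPrime p.asIdeal)
          (Localization.AtPrime Q.asIdeal) := by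
        rw [← RingHom.formallyUnramified_algebraMap]
        exact (RingHom.FormallyUnramified.respectsIso.arrow_mk_iso_iff
          (Scheme.arrowStalkMapSpecIso _ Q)).mp hs
      exact Algebra.FormallyUnramified.comp _ (Localization.AtPrime p.asIdeal) _
    let p := (hU.primeIdealOf ⟨f x, hVU hxV⟩).asIdeal
    let q := (hV.primeIdealOf ⟨x, hxV⟩).asIdeal
    have : q.LiesOver p :=
      ⟨congr($(IsAffineOpen.comap_primeIdealOf_appLE U hU V hV hVU hxV).1).symm⟩
    let := Localization.AtPrime.algebraOfLiesOver p q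
    rw [RingHom.FormallyUnramified.respectsIso.arrow_mk_iso_iff
      (IsAffineOpen.arrowStalkMapIso f U hU V hV hVU hxV)]
    show (algebraMap (Localization.AtPrime p) (Localization.AtPrime q)).FormallyUnramified
    rw [RingHom.formallyUnramified_algebraMap]
    have h2 := isUnramifiedAt_of_baseChange Γ(Y, U) T Γ(X, V) Q.asIdeal hun
    have h3 : Algebra.IsUnramifiedAt Γ(Y, U) q := by
      have e : q = _ := congrArg PrimeSpectrum.asIdeal hq.symm
      simp only [e]
      exact h2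
    exact Algebra.FormallyUnramified.of_restrictScalars Γ(Y, U) _ _

theorem smooth_nhd_of_baseChange (f : X ⟶ Y) [LocallyOfFinitePresentation f] (g : Y' ⟶ Y)
    (x' : ↑(pullback f g)) (hg : (g.stalkMap (pullback.snd f g x')).hom.Flat)
    (h : ∃ U' : (pullback f g).Opens, x' ∈ U' ∧ Smooth (U'.ι ≫ pullback.snd f g)) :
    ∃ U : X.Opens, pullback.fst f g x' ∈ U ∧ Smooth (U.ι ≫ f) := by
  obtain ⟨P, _, s, _, m, z, hP, hz, hsm, -⟩ := exists_chart_descend f g x' hg
  obtain ⟨U, hzU, hU⟩ := nhd_of_isPullback (W := @Smooth) hP z (hz ▸ h)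
  exact (smooth_nhd_iff f _).mpr (hsm ((smooth_nhd_iff s z).mp ⟨U, hzU, hU⟩))

theorem etale_nhd_of_baseChange (f : X ⟶ Y) [LocallyOfFinitePresentation f] (g : Y' ⟶ Y)
    (x' : ↑(pullback f g)) (hg : (g.stalkMap (pullback.snd f g x')).hom.Flat)
    (h : ∃ U' : (pullback f g).Opens, x' ∈ U' ∧ Etale (U'.ι ≫ pullback.snd f g)) :
    ∃ U : X.Opens, pullback.fst f g x' ∈ U ∧ Etale (U.ι ≫ f) := by
  obtain ⟨P, _, s, _, m, z, hP, hz, hsm, hun⟩ := exists_chart_descend f g x' hg
  obtain ⟨U, hzU, hU⟩ := nhd_of_isPullback (W := @Etale) hP z (hz ▸ h)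
  have hs := (etale_nhd_iff s z).mp ⟨U, hzU, hU⟩
  obtain ⟨U₁, hx₁, h₁⟩ := (smooth_nhd_iff f _).mpr
    (hsm ((smooth_nhd_iff s z).mp ⟨U, hzU, inferInstance⟩))
  refine (etale_nhd_iff f _).mpr ⟨?_, hun hs.2⟩
  exact (stalkMap_comp_ι_iff RingHom.Flat.respectsIso U₁.ι f ⟨_, hx₁⟩).mp
    (Flat.stalkMap (U₁.ι ≫ f) ⟨_, hx₁⟩)

end GrothLib.LocProp
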