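import Groth.Agent.Lib.LocProp.Stalk
import Mathlib.RingTheory.Unramified.LocalRing

/-!
# Unramified stalk maps: maximal ideal and residue extension
-/

namespace GrothLib.LocProp

open AlgebraicGeometry CategoryTheory

universe u

variable {X Y : Scheme.{u}}

set_option backward.isDefEq.respectTransparency false in
/-- A stalk map is unramified iff it carries the maximal ideal onto the maximal ideal and the
residue extension is finite separable. -/
theorem formallyUnramified_stalk_iff (f : X ⟶ Y) [LocallyOfFiniteType f] (x : X) :
    (f.stalkMap x).hom.FormallyUnramified ↔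
      (IsLocalRing.maximalIdeal (Y.presheaf.stalk (f.base x))).map (f.stalkMap x).hom =
        IsLocalRing.maximalIdeal (X.presheaf.stalk x) ∧
      letI := (f.residueFieldMap x).hom.toAlgebra
      Module.Finite (Y.residueField (f.base x)) (X.residueField x) ∧
        Algebra.IsSeparable (Y.residueField (f.base x)) (X.residueField x) := by
  let : Algebra (Y.presheaf.stalk (f.base x)) (X.presheaf.stalk x) := (f.stalkMap x).hom.toAlgebra
  have : IsLocalHom (algebraMap (Y.presheaf.stalk (f.base x)) (X.presheaf.stalk x)) :=
    inferInstanceAs <| IsLocalHom (f.stalkMap x).hom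
  have : Algebra.EssFiniteType (Y.presheaf.stalk (f.base x)) (X.presheaf.stalk x) := by
    rw [← RingHom.essFiniteType_algebraMap, RingHom.algebraMap_toAlgebra]
    exact LocallyOfFiniteType.stalkMap f x
  have key : (f.residueFieldMap x).hom.toAlgebra =
      (inferInstance : Algebra (IsLocalRing.ResidueField (Y.presheaf.stalk (f.base x)))
        (IsLocalRing.ResidueField (X.presheaf.stalk x))) := by
    refine Algebra.algebra_ext _ _ fun a ↦ ?_
    obtain ⟨a, rfl⟩ := IsLocalRing.residue_surjective a
    rfl
  show Algebra.FormallyUnramified (Y.presheaf.stalk (f.base x)) (X.presheaf.stalk x) ↔ _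
  rw [Algebra.FormallyUnramified.iff_map_maximalIdeal_eq]
  constructor
  · rintro ⟨hs, hm⟩
    have : Algebra.FormallyUnramified (Y.presheaf.stalk (f.base x)) (X.presheaf.stalk x) :=
      .of_map_maximalIdeal hm
    refine ⟨hm, ?_⟩
    have h1 : Module.Finite (IsLocalRing.ResidueField (Y.presheaf.stalk (f.base x)))
        (IsLocalRing.ResidueField (X.presheaf.stalk x)) := inferInstance
    convert! (⟨h1, hs⟩ : _ ∧ _)
    all_goals exact key ▸ rfl
  · rintro ⟨hm, -, hs⟩
    refine ⟨?_, hm⟩
    convert! hs
    exact key.symm

end GrothLib.LocProp
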