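import Groth.Agent.Lib.LocProp.Stalk
import Groth.Agent.Lib.Flatness.Fibre
import Mathlib.AlgebraicGeometry.Morphisms.FiniteType
import Mathlib.RingTheory.Unramified.LocalRing
import Mathlib.RingTheory.Unramified.Finite
import Mathlib.RingTheory.Flat.FaithfullyFlat.Algebra

/-!
# Descent of unramifiedness and étaleness along maps flat at a point
-/

namespace GrothLib.LocProp

open AlgebraicGeometry CategoryTheory IsLocalRing

universe u

/-- Unramifiedness descends along a faithfully flat local extension. -/
theorem formallyUnramified_of_faithfullyFlat (A B C : Type u) [CommRing A] [CommRing B]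
    [CommRing C] [IsLocalRing A] [IsLocalRing B] [IsLocalRing C] [Algebra A B] [Algebra B C]
    [Algebra A C] [IsScalarTower A B C] [IsLocalHom (algebraMap A B)] [IsLocalHom (algebraMap B C)]
    [Algebra.EssFiniteType A B] [Algebra.EssFiniteType A C] [Module.FaithfullyFlat B C]
    [Algebra.FormallyUnramified A C] : Algebra.FormallyUnramified A B := by
  have : IsLocalHom (algebraMap A C) := by
    rw [IsScalarTower.algebraMap_eq A B C]; infer_instance
  obtain ⟨hsep, hmap⟩ := (Algebra.FormallyUnramified.iff_map_maximalIdeal_eq (R := A) (S := C)).mp ‹_›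
  refine Algebra.FormallyUnramified.iff_map_maximalIdeal_eq.mpr ⟨?_, ?_⟩
  · have : IsScalarTower (ResidueField A) (ResidueField B) (ResidueField C) :=
      IsScalarTower.of_algebraMap_eq fun x ↦ by
        obtain ⟨a, rfl⟩ := residue_surjective x
        exact congrArg (residue C) (IsScalarTower.algebraMap_apply A B C a)
    exact Algebra.IsSeparable.of_algHom _ _
      (IsScalarTower.toAlgHom (ResidueField A) (ResidueField B) (ResidueField C))
  · rw [← Ideal.comap_map_eq_self_of_faithfullyFlat (B := C) ((maximalIdeal A).map (algebraMap A B)),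
      Ideal.map_map, ← IsScalarTower.algebraMap_eq, hmap]
    exact ((local_hom_TFAE (algebraMap B C)).out 0 4 rfl rfl).mp ‹_›

variable {X Y S : Scheme.{u}}

set_option backward.isDefEq.respectTransparency false in
theorem flat_and_unramified_of_comp (g : X ⟶ Y) (h : Y ⟶ S) [LocallyOfFiniteType h] (x : X)
    (hu : (h.stalkMap (g x)).hom.FormallyUnramified) (hf : ((g ≫ h).stalkMap x).hom.Flat) :
    (h.stalkMap (g x)).hom.Flat ∧ (g.stalkMap x).hom.Flat := by
  rw [Scheme.Hom.stalkMap_comp, CommRingCat.hom_comp] at hf
  let A := S.presheaf.stalk (h (g x))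
  let B := Y.presheaf.stalk (g x)
  let C := X.presheaf.stalk x
  have hess := LocallyOfFiniteType.stalkMap h (g x)
  algebraize [(h.stalkMap (g x)).hom, (g.stalkMap x).hom,
    (g.stalkMap x).hom.comp (h.stalkMap (g x)).hom]
  have : IsLocalHom (algebraMap B C) := inferInstanceAs (IsLocalHom (g.stalkMap x).hom)
  have : Module.Flat A C := hf
  have hBC : Module.Flat B C := Algebra.FormallyUnramified.flat_of_restrictScalars A B C
  have : Module.FaithfullyFlat B C := .of_flat_of_isLocalHom
  exact ⟨Flatness.flat_of_faithfullyFlat (R := A) (S := B) (M := C), hBC⟩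

set_option backward.isDefEq.respectTransparency false in
theorem formallyUnramified_descends (g : X ⟶ Y) (f : Y ⟶ S) [LocallyOfFiniteType f]
    [LocallyOfFiniteType (g ≫ f)] (x : X) (hg : (g.stalkMap x).hom.Flat)
    (hh : ((g ≫ f).stalkMap x).hom.FormallyUnramified) :
    (f.stalkMap (g x)).hom.FormallyUnramified := by
  have hess' := LocallyOfFiniteType.stalkMap (g ≫ f) x
  rw [Scheme.Hom.stalkMap_comp, CommRingCat.hom_comp] at hh hess'
  let A := S.presheaf.stalk (f (g x))
  let B := Y.presheaf.stalk (g x)
  let C := X.presheaf.stalk x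
  have hess := LocallyOfFiniteType.stalkMap f (g x)
  algebraize [(f.stalkMap (g x)).hom, (g.stalkMap x).hom,
    (g.stalkMap x).hom.comp (f.stalkMap (g x)).hom]
  have : IsLocalHom (algebraMap B C) := inferInstanceAs (IsLocalHom (g.stalkMap x).hom)
  have : IsLocalHom (algebraMap A B) := inferInstanceAs (IsLocalHom (f.stalkMap (g x)).hom)
  have : Module.FaithfullyFlat B C := .of_flat_of_isLocalHom
  have : Algebra.EssFiniteType A C := hess'
  have : Algebra.FormallyUnramified A C := hh
  exact formallyUnramified_of_faithfullyFlat A B C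

set_option backward.isDefEq.respectTransparency false in
theorem flat_descends (g : X ⟶ Y) (f : Y ⟶ S) (x : X) (hg : (g.stalkMap x).hom.Flat)
    (hh : ((g ≫ f).stalkMap x).hom.Flat) : (f.stalkMap (g x)).hom.Flat := by
  rw [Scheme.Hom.stalkMap_comp, CommRingCat.hom_comp] at hh
  let B := Y.presheaf.stalk (g x)
  let C := X.presheaf.stalk x
  algebraize [(f.stalkMap (g x)).hom, (g.stalkMap x).hom,
    (g.stalkMap x).hom.comp (f.stalkMap (g x)).hom]
  have : IsLocalHom (algebraMap B C) := inferInstanceAs (IsLocalHom (g.stalkMap x).hom)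
  have : Module.FaithfullyFlat B C := .of_flat_of_isLocalHom
  have : Module.Flat (S.presheaf.stalk (f (g x))) C := hh
  exact Flatness.flat_of_faithfullyFlat (R := S.presheaf.stalk (f (g x))) (S := B) (M := C)

end GrothLib.LocProp
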