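import Groth.Agent.Lib.RegLoc.Basic
import Mathlib.RingTheory.Smooth.Local
import Mathlib.RingTheory.Smooth.Fiber
import Mathlib.RingTheory.Smooth.Field
import Mathlib.RingTheory.Smooth.Locus
import Mathlib.RingTheory.RegularLocalRing.Polynomial
import Mathlib.RingTheory.Etale.Kaehler
import Mathlib.RingTheory.Ideal.Cotangent

/-!
# Regular points with smooth residue field are smooth
-/

namespace GrothLib.LocProp

open IsLocalRing TensorProduct KaehlerDifferential

universe u

/-- A regular local `k`-algebra with formally smooth residue field is formally smooth, given a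
formally smooth regular local presentation. -/
theorem formallySmooth_of_regular_presentation (k P S : Type u) [CommRing k] [CommRing P]
    [CommRing S] [Algebra k P] [Algebra k S] [Algebra P S] [IsScalarTower k P S]
    [IsRegularLocalRing P] [IsRegularLocalRing S] [Algebra.FormallySmooth k P]
    [Module.Free P Ω[P⁄k]] [Module.Finite P Ω[P⁄k]]
    [Algebra.FormallySmooth k (ResidueField S)]
    (hsurj : Function.Surjective (algebraMap P S)) : Algebra.FormallySmooth k S := by
  classical
  set J := RingHom.ker (algebraMap P S) with hJ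
  have : IsRegularLocalRing (P ⧸ J) :=
    IsRegularLocalRing.of_ringEquiv (RingHom.quotientKerEquivOfSurjective hsurj).symm
  obtain ⟨x, c, hc, hxspan, hxJ, -⟩ := GrothLib.RegLoc.exists_generators_quotient _ P rfl J
  rw [Algebra.FormallySmooth.iff_injective_cotangentComplexBaseChange_residueField P hsurj
    (IsNoetherian.noetherian _)]
  set K := ResidueField S
  have hPK : Function.Surjective (algebraMap P K) := by
    rw [IsScalarTower.algebraMap_eq P S K, RingHom.coe_comp]
    exact residue_surjective.comp hsurj
  have hker : RingHom.ker (algebraMap P K) = maximalIdeal P :=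
    eq_maximalIdeal (RingHom.ker_isMaximal_of_surjective _ hPK)
  obtain ⟨l, hl⟩ := (Algebra.FormallySmooth.iff_split_injection (R := k) hPK).mp ‹_›
  -- minimality of the generators
  have hmin : ∀ b : Fin (maximalIdeal P).spanFinrank → P,
      (∑ i, b i * x i) ∈ maximalIdeal P ^ 2 → ∀ i, b i ∈ maximalIdeal P := by
    intro b hb i
    by_contra hbi
    have hbu : IsUnit (b i) := of_not_not hbi
    let s := Finset.univ.erase i
    have hle : Ideal.span (x '' s) ≤ maximalIdeal P :=
      (Ideal.span_mono (Set.image_subset_range _ _)).trans hxspan.le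
    have hsup : maximalIdeal P ≤ Ideal.span (x '' s) ⊔ maximalIdeal P ^ 2 := by
      refine hxspan.ge.trans ?_
      rw [Ideal.span_le]
      rintro _ ⟨j, rfl⟩
      by_cases hj : j = i
      · subst hj
        rw [SetLike.mem_coe, ← Ideal.unit_mul_mem_iff_mem _ hbu,
          show b j * x j = (∑ i, b i * x i) - ∑ i ∈ s, b i * x i by
            rw [← Finset.add_sum_erase _ _ (Finset.mem_univ j)]; simp [s]]
        exact sub_mem (Ideal.mem_sup_right hb) (Submodule.sum_mem _ fun m hm ↦
          Ideal.mem_sup_left (Ideal.mul_mem_left _ _ (Ideal.subset_span ⟨m, hm, rfl⟩)))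
      · exact Ideal.mem_sup_left (Ideal.subset_span ⟨j, by simp [s, hj], rfl⟩)
    have h := GrothLib.RegLoc.eq_maximalIdeal_of_sup_sq hle hsup
    have h2 := Submodule.spanFinrank_span_le_ncard_of_finite (R := P) (s.finite_toSet.image x)
    rw [Ideal.submodule_span_eq, h] at h2
    have h3 : (x '' (s : Set (Fin _))).ncard < (maximalIdeal P).spanFinrank :=
      (Set.ncard_image_le s.finite_toSet).trans_lt (by
        rw [Set.ncard_coe_finset, Finset.card_erase_of_mem (Finset.mem_univ i), Finset.card_univ,
          Fintype.card_fin]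
        exact Nat.sub_lt i.pos one_pos)
    exact absurd (h2.trans_lt h3) (lt_irrefl _)
  rw [injective_iff_map_eq_zero]
  intro z hz
  -- write `z` in terms of the generators
  let e : Fin c → J := fun i ↦ ⟨x (Fin.castLE hc i), by rw [hxJ]; exact Ideal.subset_span ⟨i, rfl⟩⟩
  have hspanJ : Submodule.span P (Set.range e) = ⊤ := by
    refine Submodule.map_injective_of_injective (f := J.subtype) Subtype.val_injective ?_
    rw [Submodule.map_span, ← Set.range_comp, Submodule.map_top, Submodule.range_subtype]
    exact hxJ.symm
  obtain ⟨a, rfl⟩ : ∃ a : Fin c → K, ∑ i, a i ⊗ₜ[P] e i = z := by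
    induction z using TensorProduct.induction_on with
    | zero => exact ⟨0, by simp⟩
    | tmul t j =>
      obtain ⟨r, hr⟩ := (Submodule.mem_span_range_iff_exists_fun P).mp
        (hspanJ.ge (Submodule.mem_top (x := j)))
      exact ⟨fun i ↦ r i • t, by simp [← hr, TensorProduct.tmul_sum, TensorProduct.smul_tmul]⟩
    | add u v hu hv =>
      have h0 : ∀ w : K ⊗[P] J, ∃ a : Fin c → K, ∑ i, a i ⊗ₜ[P] e i = w := fun w ↦ by
        induction w using TensorProduct.induction_on with
        | zero => exact ⟨0, by simp⟩
        | tmul t j =>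
          obtain ⟨r, hr⟩ := (Submodule.mem_span_range_iff_exists_fun P).mp
            (hspanJ.ge (Submodule.mem_top (x := j)))
          exact ⟨fun i ↦ r i • t, by simp [← hr, TensorProduct.tmul_sum, TensorProduct.smul_tmul]⟩
        | add u v hu hv =>
          obtain ⟨a, ha⟩ := hu
          obtain ⟨a', ha'⟩ := hv
          exact ⟨a + a', by simp [TensorProduct.add_tmul, Finset.sum_add_distrib, ha, ha']⟩
      exact h0 _
  choose b hb using fun i ↦ hPK (a i)
  set y := ∑ i, b i * x (Fin.castLE hc i) with hy
  have hxK : ∀ j, algebraMap P K (x j) = 0 := fun j ↦ by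
    rw [← RingHom.mem_ker, hker, ← hxspan]; exact Ideal.subset_span ⟨j, rfl⟩
  have hyK : y ∈ RingHom.ker (algebraMap P K) := by
    rw [RingHom.mem_ker, map_sum]
    exact Finset.sum_eq_zero fun i _ ↦ by rw [map_mul, hxK, mul_zero]
  have hDy : (1 : K) ⊗ₜ[P] D k P y = 0 := by
    rw [← hz, map_sum, map_sum, TensorProduct.tmul_sum]
    refine Finset.sum_congr rfl fun i _ ↦ ?_
    rw [Derivation.leibniz, TensorProduct.tmul_add, ← TensorProduct.smul_tmul, ← TensorProduct.smul_tmul,
      ← Algebra.algebraMap_eq_smul_one, ← Algebra.algebraMap_eq_smul_one, hxK, TensorProduct.zero_tmul,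
      add_zero, hb, KaehlerDifferential.cotangentComplexBaseChange_tmul]
    simp [e, TensorProduct.smul_tmul']
  have hcot : (RingHom.ker (algebraMap P K)).toCotangent ⟨y, hyK⟩ = 0 := by
    have h := LinearMap.congr_fun hl ((RingHom.ker (algebraMap P K)).toCotangent ⟨y, hyK⟩)
    rw [LinearMap.comp_apply, KaehlerDifferential.kerCotangentToTensor_toCotangent, hDy,
      map_zero, LinearMap.id_apply] at h
    exact h.symm
  have hcot : y ∈ maximalIdeal P ^ 2 := by
    have h : y ∈ RingHom.ker (algebraMap P K) ^ 2 := (Ideal.toCotangent_eq_zero _ _).mp hcot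
    rwa [hker] at h
  let b' : Fin (maximalIdeal P).spanFinrank → P := fun j ↦
    if h : (j : ℕ) < c then b ⟨j, h⟩ else 0
  have hsum : ∑ j, b' j * x j = y := by
    rw [hy]
    refine (Finset.sum_of_injOn (Fin.castLE hc) (Fin.castLE_injective hc).injOn (by simp) (fun j _ hj ↦ ?_)
      fun i _ ↦ by simp [b']).symm
    have : ¬ (j : ℕ) < c := fun h ↦ hj ⟨⟨j, h⟩, by simp, rfl⟩
    simp [b', this]
  refine Finset.sum_eq_zero fun i _ ↦ ?_
  have hbi := hmin b' (hsum ▸ hcot) (Fin.castLE hc i)
  have : b' (Fin.castLE hc i) = b i := by simp [b']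
  rw [this, ← hker, RingHom.mem_ker, hb] at hbi
  rw [hbi, TensorProduct.zero_tmul]

/-- A regular point with formally smooth residue field of an algebra of finite type over a regular
Noetherian ring with trivial differentials is smooth. -/
theorem isSmoothAt_of_isRegularLocalRing {k A : Type u} [Field k] [CommRing A] [Algebra k A]
    [Algebra.FiniteType k A] (q : Ideal A) [q.IsPrime]
    [IsRegularLocalRing (Localization.AtPrime q)]
    [Algebra.FormallySmooth k (ResidueField (Localization.AtPrime q))] :
    Algebra.IsSmoothAt k q := by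
  obtain ⟨n, f, hf⟩ := Algebra.FiniteType.iff_quotient_mvPolynomial''.mp ‹Algebra.FiniteType k A›
  let p := q.comap f.toRingHom
  let fP : Localization.AtPrime p →+* Localization.AtPrime q :=
    Localization.localRingHom p q f.toRingHom rfl
  have hsurj : Function.Surjective fP := fun z ↦ by
    obtain ⟨a, ⟨s, hs⟩, rfl⟩ := IsLocalization.exists_mk'_eq q.primeCompl z
    obtain ⟨a, rfl⟩ := hf a
    obtain ⟨s, rfl⟩ := hf s
    exact ⟨IsLocalization.mk' _ a (⟨s, hs⟩ : p.primeCompl), Localization.localRingHom_mk' _ _ _ rfl _ _⟩
  let _ : Algebra (Localization.AtPrime p) (Localization.AtPrime q) := fP.toAlgebra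
  have : IsScalarTower k (Localization.AtPrime p) (Localization.AtPrime q) :=
    IsScalarTower.of_algebraMap_eq fun r ↦ by
      show _ = fP _
      rw [IsScalarTower.algebraMap_apply k (MvPolynomial (Fin n) k) (Localization.AtPrime p),
        Localization.localRingHom_to_map, IsScalarTower.algebraMap_apply k A (Localization.AtPrime q)]
      exact congrArg _ (f.commutes r).symm
  have : Algebra.FormallyEtale (MvPolynomial (Fin n) k) (Localization.AtPrime p) :=
    .of_isLocalization p.primeCompl
  have : Algebra.FormallySmooth k (Localization.AtPrime p) := .comp _ (MvPolynomial (Fin n) k) _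
  have : Module.Free (Localization.AtPrime p) Ω[Localization.AtPrime p⁄k] :=
    .of_equiv (KaehlerDifferential.tensorKaehlerEquivOfFormallyEtale k (MvPolynomial (Fin n) k)
      (Localization.AtPrime p))
  have : Algebra.EssFiniteType (MvPolynomial (Fin n) k) (Localization.AtPrime p) :=
    .of_isLocalization _ p.primeCompl
  have : Algebra.EssFiniteType k (Localization.AtPrime p) := .comp _ (MvPolynomial (Fin n) k) _
  exact formallySmooth_of_regular_presentation k (Localization.AtPrime p) _ hsurj

/-- Over a perfect field regular points are smooth. -/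
theorem isSmoothAt_of_isRegularLocalRing_of_perfectField {k A : Type u} [Field k] [PerfectField k]
    [CommRing A] [Algebra k A] [Algebra.FiniteType k A] (q : Ideal A) [q.IsPrime]
    [IsRegularLocalRing (Localization.AtPrime q)] : Algebra.IsSmoothAt k q := by
  have : Algebra.EssFiniteType A (Localization.AtPrime q) := .of_isLocalization _ q.primeCompl
  have : Algebra.EssFiniteType k (Localization.AtPrime q) := .comp _ A _
  have : Algebra.EssFiniteType k (ResidueField (Localization.AtPrime q)) :=
    .comp _ (Localization.AtPrime q) _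
  exact isSmoothAt_of_isRegularLocalRing q

end GrothLib.LocProp
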