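import Groth.Agent.Lib.LocProp.SmoothRegularLocal
import Groth.Agent.Lib.LocProp.Stalk
import Mathlib.AlgebraicGeometry.Morphisms.Smooth
import Mathlib.AlgebraicGeometry.Noetherian

/-!
# Regularity at smooth points: schemes
-/

namespace GrothLib.LocProp

open AlgebraicGeometry CategoryTheory

universe u

theorem isRegularLocalRing_stalk_iff_primeIdealOf {X : Scheme.{u}} {U : X.Opens}
    (hU : IsAffineOpen U) (x : X) (hx : x ∈ U) :
    IsRegularLocalRing (X.presheaf.stalk x) ↔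
      IsRegularLocalRing (Localization.AtPrime (hU.primeIdealOf ⟨x, hx⟩).asIdeal) := by
  let _ : Algebra Γ(X, U) (X.presheaf.stalk x) := X.presheaf.algebra_section_stalk ⟨x, hx⟩
  have : IsLocalization.AtPrime (X.presheaf.stalk x) (hU.primeIdealOf ⟨x, hx⟩).asIdeal :=
    hU.isLocalization_stalk ⟨x, hx⟩
  let e := (IsLocalization.algEquiv (hU.primeIdealOf ⟨x, hx⟩).asIdeal.primeCompl
    (Localization.AtPrime (hU.primeIdealOf ⟨x, hx⟩).asIdeal) (X.presheaf.stalk x)).toRingEquiv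
  exact ⟨fun _ ↦ IsRegularLocalRing.of_ringEquiv (R := X.presheaf.stalk x) e.symm,
    fun _ ↦ IsRegularLocalRing.of_ringEquiv
      (R := Localization.AtPrime (hU.primeIdealOf ⟨x, hx⟩).asIdeal) e⟩

theorem isRegularLocalRing_stalk_iff_of_mem_smoothLocus {X Y : Scheme.{u}} (f : X ⟶ Y)
    [IsLocallyNoetherian Y] [LocallyOfFinitePresentation f] (x : X) (hx : x ∈ f.smoothLocus) :
    IsRegularLocalRing (X.presheaf.stalk x) ↔ IsRegularLocalRing (Y.presheaf.stalk (f x)) := by
  obtain ⟨_, ⟨U, hU, rfl⟩, hxU, -⟩ :=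
    Y.isBasis_affineOpens.exists_subset_of_mem_open (Set.mem_univ (f x)) isOpen_univ
  obtain ⟨_, ⟨V, hV, rfl⟩, hxV, hVU⟩ :=
    X.isBasis_affineOpens.exists_subset_of_mem_open hxU (U.2.preimage f.continuous)
  rw [Scheme.Hom.mem_smoothLocus, formallySmooth_stalkMap_iff U hU V hV hVU hxV] at hx
  rw [isRegularLocalRing_stalk_iff_primeIdealOf hV x hxV,
    isRegularLocalRing_stalk_iff_primeIdealOf hU (f x) hxU]
  let _ : Algebra Γ(Y, U) Γ(X, V) := (f.appLE U V hVU).hom.toAlgebra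
  have : Algebra.FinitePresentation Γ(Y, U) Γ(X, V) := f.finitePresentation_appLE hU hV hVU
  have : IsNoetherianRing Γ(Y, U) := IsLocallyNoetherian.component_noetherian ⟨U, hU⟩
  have : Algebra.IsSmoothAt Γ(Y, U) (hV.primeIdealOf ⟨x, hxV⟩).asIdeal := hx
  refine (isRegularLocalRing_iff_of_isSmoothAt (A := Γ(Y, U)) _).trans ?_
  have key : ∀ (I J : Ideal Γ(Y, U)) [I.IsPrime] [J.IsPrime], I = J →
      (IsRegularLocalRing (Localization.AtPrime I) ↔ IsRegularLocalRing (Localization.AtPrime J)) := by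
    rintro I J _ _ rfl; rfl
  exact key _ _ congr($(IsAffineOpen.comap_primeIdealOf_appLE U hU V hV hVU hxV).1)

end GrothLib.LocProp
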