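import Groth.Agent.Lib.LocProp.EtaleTower
import Mathlib.RingTheory.Kaehler.Polynomial
import Mathlib.RingTheory.Etale.Kaehler
import Mathlib.RingTheory.Etale.Locus
import Mathlib.RingTheory.RingHom.Etale
import Mathlib.RingTheory.LocalRing.Module
import Mathlib.RingTheory.Jacobson.Ring
import Mathlib.FieldTheory.Perfect
import Mathlib.RingTheory.IntegralDomain
import Mathlib.RingTheory.Unramified.Field

/-!
# Étale coordinates
-/

namespace GrothLib.LocProp

open TensorProduct KaehlerDifferential

universe u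

theorem formallyEtale_mvPolynomial_iff (A C : Type u) [CommRing A] [CommRing C] [Algebra A C]
    [Algebra.FormallySmooth A C] {σ : Type} [Fintype σ] [Algebra (MvPolynomial σ A) C]
    [IsScalarTower A (MvPolynomial σ A) C] :
    Algebra.FormallyEtale (MvPolynomial σ A) C ↔
      Function.Bijective (Finsupp.linearCombination C
        fun i : σ ↦ D A C (algebraMap (MvPolynomial σ A) C (MvPolynomial.X i))) := by
  rw [formallyEtale_iff_bijective_mapBaseChange A (MvPolynomial σ A) C]
  let b := Algebra.TensorProduct.basis C (mvPolynomialBasis A σ)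
  have h : mapBaseChange A (MvPolynomial σ A) C = (Finsupp.linearCombination C
        fun i : σ ↦ D A C (algebraMap (MvPolynomial σ A) C (MvPolynomial.X i))) ∘ₗ b.repr.toLinearMap := by
    refine b.ext fun i ↦ ?_
    rw [LinearMap.comp_apply, LinearEquiv.coe_coe, Module.Basis.repr_self,
      Finsupp.linearCombination_single, one_smul, Algebra.TensorProduct.basis_apply,
      show mvPolynomialBasis A σ i = D A _ (MvPolynomial.X i) from ?_, mapBaseChange_tmul, one_smul,
      map_D]
    refine (mvPolynomialBasis A σ).repr.injective ?_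
    rw [Module.Basis.repr_self, mvPolynomialBasis_repr_D_X]
  rw [h, LinearMap.coe_comp]
  exact Function.Bijective.of_comp_iff _ b.repr.bijective

theorem exists_aeval_eq_of_finite {k K : Type*} [CommRing k] [Field K] [Algebra k K] [Finite K] :
    ∃ θ : K, ∀ c : K, ∃ p : Polynomial k, Polynomial.aeval θ p = c := by
  obtain ⟨θ, hθ⟩ := IsCyclic.exists_monoid_generator (α := Kˣ)
  refine ⟨θ, fun c ↦ ?_⟩
  rcases eq_or_ne c 0 with rfl | hc
  · exact ⟨0, map_zero _⟩
  obtain ⟨n, hn⟩ := Submonoid.mem_powers_iff _ _ |>.mp (hθ (Units.mk0 c hc))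
  exact ⟨Polynomial.X ^ n, by simpa using congrArg Units.val hn⟩

/-- Étale coordinates at a closed point over a finite residue field, with trivial residue extension. -/
theorem exists_etale_chart_of_finite_residueField
    (k : Type u) [CommRing k] [IsLocalRing k] [Finite (IsLocalRing.ResidueField k)]
    (R : Type u) [CommRing R] [Algebra k R] [Algebra.FinitePresentation k R]
    (m : Ideal R) [m.IsMaximal] (hm : m.comap (algebraMap k R) = IsLocalRing.maximalIdeal k)
    [Algebra.IsSmoothAt k m] (d : ℕ) (hd : 0 < d)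
    (hdim : Module.finrank (R ⧸ m) ((R ⧸ m) ⊗[R] Ω[R⁄k]) = d) :
    ∃ g : R, g ∉ m ∧ ∃ φ : MvPolynomial (Fin d) k →ₐ[k] Localization.Away g,
      φ.toRingHom.Etale ∧
      Function.Surjective
        ((Ideal.Quotient.mk (m.map (algebraMap R (Localization.Away g)))).comp φ.toRingHom) := by
  classical
  let C := Localization.AtPrime m
  let κ := IsLocalRing.ResidueField C
  let _ : Field (R ⧸ m) := Ideal.Quotient.field m
  let _ : Algebra (IsLocalRing.ResidueField k) (R ⧸ m) :=
    (Ideal.quotientMap m (algebraMap k R) (le_of_eq hm.symm)).toAlgebra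
  have : IsScalarTower k (IsLocalRing.ResidueField k) (R ⧸ m) := .of_algebraMap_eq fun _ ↦ rfl
  have : Algebra.FiniteType (IsLocalRing.ResidueField k) (R ⧸ m) :=
    .of_restrictScalars_finiteType k _ _
  have : Module.Finite (IsLocalRing.ResidueField k) (R ⧸ m) :=
    finite_of_finite_type_of_isJacobsonRing _ _
  have hfinRm : Finite (R ⧸ m) := Module.finite_of_finite (IsLocalRing.ResidueField k)
  let e := IsLocalization.AtPrime.equivQuotMaximalIdeal m C
  have : Finite κ := Finite.of_equiv _ e.toEquiv
  -- the residue field is unramified over `k`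
  have : Algebra.FormallyUnramified k (IsLocalRing.ResidueField k) :=
    Algebra.FormallyUnramified.of_surjective (Algebra.ofId k _) IsLocalRing.residue_surjective
  have : Algebra.IsSeparable (IsLocalRing.ResidueField k) (R ⧸ m) :=
    Algebra.IsAlgebraic.isSeparable_of_perfectField
  have : Algebra.FormallyUnramified (IsLocalRing.ResidueField k) (R ⧸ m) :=
    Algebra.FormallyUnramified.of_isSeparable _ _
  have : Algebra.FormallyUnramified k (R ⧸ m) :=
    Algebra.FormallyUnramified.comp k (IsLocalRing.ResidueField k) (R ⧸ m)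
  let eA : (R ⧸ m) ≃ₐ[k] κ := AlgEquiv.ofRingEquiv (f := e) fun a ↦ by
    show e (Ideal.Quotient.mk m (algebraMap k R a)) = _
    rw [IsLocalization.AtPrime.equivQuotMaximalIdeal_apply_mk]
    rfl
  have : Algebra.FormallyUnramified k κ := Algebra.FormallyUnramified.of_equiv eA
  -- the differentials
  have : Algebra.EssFiniteType R C := Algebra.EssFiniteType.of_isLocalization C m.primeCompl
  have : Algebra.EssFiniteType k C := Algebra.EssFiniteType.comp k R C
  have : Algebra.FormallySmooth k C := ‹Algebra.IsSmoothAt k m›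
  have : Module.Free C Ω[C⁄k] := Module.free_of_flat_of_isLocalRing
  have : Algebra.FormallyEtale R C := Algebra.FormallyEtale.of_isLocalization m.primeCompl
  let _ : Algebra C (R ⧸ m) := (IsLocalization.lift (M := m.primeCompl) (S := C)
    (g := Ideal.Quotient.mk m) fun y ↦ IsUnit.mk0 _ fun h ↦
      y.2 (Ideal.Quotient.eq_zero_iff_mem.mp h)).toAlgebra
  have : IsScalarTower R C (R ⧸ m) := .of_algebraMap_eq fun r ↦
    (IsLocalization.lift_eq _ r).symm
  have hrank : Module.finrank C Ω[C⁄k] = d := by
    rw [← hdim, ← (AlgebraTensorModule.cancelBaseChange R C (R ⧸ m) (R ⧸ m) Ω[R⁄k]).finrank_eq,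
      (LinearEquiv.baseChange C (R ⧸ m) _ _ (tensorKaehlerEquivOfFormallyEtale k R C)).finrank_eq,
      Module.finrank_baseChange]
  let bΩ := (Module.Free.chooseBasis C Ω[C⁄k])
  let bV : Module.Basis (Fin d) κ (κ ⊗[C] Ω[C⁄k]) :=
    Module.finBasisOfFinrankEq κ _ (by rw [Module.finrank_baseChange, hrank])
  -- every fibre class is the differential of an element of prescribed residue
  have key : ∀ (c : κ) (v : κ ⊗[C] Ω[C⁄k]), ∃ r : R,
      algebraMap C κ (algebraMap R C r) = c ∧ (1 : κ) ⊗ₜ[C] D k C (algebraMap R C r) = v := by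
    intro c v
    obtain ⟨c, rfl⟩ := IsLocalRing.residue_surjective c
    have hv : v - 1 ⊗ₜ[C] D k C c ∈ LinearMap.ker (mapBaseChange k C κ) := by
      rw [LinearMap.mem_ker]; exact Subsingleton.elim _ _
    rw [← Submodule.restrictScalars_mem C,
      ← range_kerCotangentToTensor k C κ IsLocalRing.residue_surjective] at hv
    obtain ⟨y, hy⟩ := hv
    obtain ⟨⟨y, hy0⟩, rfl⟩ := Ideal.toCotangent_surjective _ y
    rw [kerCotangentToTensor_toCotangent] at hy
    obtain ⟨r, hr⟩ := (IsLocalization.AtPrime.equivQuotMaximalIdealPow m C 2).surjective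
      (Ideal.Quotient.mk _ (c + y))
    obtain ⟨r, rfl⟩ := Ideal.Quotient.mk_surjective r
    rw [IsLocalization.AtPrime.equivQuotMaximalIdealPow_apply_mk, Ideal.Quotient.eq] at hr
    have hres : ∀ z ∈ IsLocalRing.maximalIdeal C, algebraMap C κ z = 0 := fun z hz ↦
      (IsLocalRing.residue_eq_zero_iff z).mpr hz
    have hsq : ∀ z ∈ IsLocalRing.maximalIdeal C ^ 2, (1 : κ) ⊗ₜ[C] D k C z = 0 := by
      intro z hz
      rw [pow_two] at hz
      refine Submodule.mul_induction_on hz (fun a ha b hb ↦ ?_) (fun a b ha hb ↦ ?_)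
      · rw [Derivation.leibniz, tmul_add, ← TensorProduct.smul_tmul, ← TensorProduct.smul_tmul,
          ← Algebra.algebraMap_eq_smul_one, ← Algebra.algebraMap_eq_smul_one, hres a ha, hres b hb,
          TensorProduct.zero_tmul, TensorProduct.zero_tmul, add_zero]
      · rw [map_add, tmul_add, ha, hb, add_zero]
    refine ⟨r, ?_, ?_⟩
    · have h2 : algebraMap R C r - (c + y) ∈ IsLocalRing.maximalIdeal C :=
        Ideal.pow_le_self two_ne_zero hr
      have h3 := hres _ h2
      rw [map_sub, map_add, RingHom.mem_ker.mp hy0, add_zero, sub_eq_zero] at h3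
      exact h3
    · have h2 := hsq _ hr
      rw [map_sub, tmul_sub, map_add, tmul_add, hy, sub_eq_zero] at h2
      rw [h2, add_sub_cancel]
  obtain ⟨θ, hθ⟩ := exists_aeval_eq_of_finite (k := k) (K := κ)
  let i₀ : Fin d := ⟨0, hd⟩
  choose x hx hx' using fun i : Fin d ↦ key (if i = i₀ then θ else 0) (bV i)
  let φ₀ : MvPolynomial (Fin d) k →ₐ[k] R := MvPolynomial.aeval x
  let _ : Algebra (MvPolynomial (Fin d) k) R := φ₀.toRingHom.toAlgebra
  have : IsScalarTower k (MvPolynomial (Fin d) k) R := .of_algebraMap_eq' φ₀.comp_algebraMap.symm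
  have : Algebra.FinitePresentation (MvPolynomial (Fin d) k) R :=
    .of_restrict_scalars_finitePresentation k _ _
  have : IsScalarTower k (MvPolynomial (Fin d) k) C := .of_algebraMap_eq fun a ↦ by
    rw [IsScalarTower.algebraMap_apply k R C, IsScalarTower.algebraMap_apply (MvPolynomial (Fin d) k) R C,
      ← IsScalarTower.algebraMap_apply k (MvPolynomial (Fin d) k) R]
  have : Algebra.IsEtaleAt (MvPolynomial (Fin d) k) m := by
    show Algebra.FormallyEtale (MvPolynomial (Fin d) k) C
    rw [formallyEtale_mvPolynomial_iff k C]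
    have hX : ∀ i, algebraMap (MvPolynomial (Fin d) k) C (MvPolynomial.X i) = algebraMap R C (x i) :=
      fun i ↦ by
      rw [IsScalarTower.algebraMap_apply (MvPolynomial (Fin d) k) R C]
      exact congrArg (algebraMap R C) (MvPolynomial.aeval_X x i)
    simp only [hX]
    let v : ULift.{u} (Fin d) → Ω[C⁄k] := fun i ↦ D k C (algebraMap R C (x i.down))
    have hbij : Function.Bijective (Finsupp.linearCombination κ (TensorProduct.mk C κ _ 1 ∘ v)) := by
      have : TensorProduct.mk C κ _ 1 ∘ v = bV.reindex Equiv.ulift.symm := funext fun i ↦ by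
        rw [Function.comp_apply, Module.Basis.reindex_apply]
        exact hx' i.down
      rw [this]
      rw [← Module.Basis.coe_repr_symm]
      exact (bV.reindex Equiv.ulift.symm).repr.symm.bijective
    have hv := Module.IsLocalRing.linearCombination_bijective_of_flat v hbij
    have : (Finsupp.linearCombination C fun i : Fin d ↦ D k C (algebraMap R C (x i))) =
        Finsupp.linearCombination C v ∘ₗ (Finsupp.domLCongr Equiv.ulift.symm).toLinearMap := by
      ext i
      simp [v]
    rw [this, LinearMap.coe_comp]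
    exact hv.comp (LinearEquiv.bijective _)
  obtain ⟨g, hg, het⟩ := Algebra.exists_etale_of_isEtaleAt (R := MvPolynomial (Fin d) k) m
  refine ⟨g, hg, IsScalarTower.toAlgHom k (MvPolynomial (Fin d) k) (Localization.Away g),
    RingHom.etale_algebraMap.mpr het, fun z ↦ ?_⟩
  obtain ⟨z, rfl⟩ := Ideal.Quotient.mk_surjective z
  obtain ⟨r, ⟨_, n, rfl⟩, rfl⟩ := IsLocalization.exists_mk'_eq (Submonoid.powers g) z
  obtain ⟨cg, hcg⟩ : ∃ cg : R, cg * g - 1 ∈ m := by
    obtain ⟨cg, hcg⟩ := Ideal.Quotient.maximal_ideal_iff_isField_quotient m |>.mp ‹_›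
      |>.mul_inv_cancel (a := Ideal.Quotient.mk m g) fun h ↦ hg (Ideal.Quotient.eq_zero_iff_mem.mp h)
    obtain ⟨cg, rfl⟩ := Ideal.Quotient.mk_surjective cg
    exact ⟨cg, Ideal.Quotient.eq.mp (by rw [map_mul, mul_comm, hcg, map_one])⟩
  obtain ⟨p, hp⟩ := hθ (algebraMap C κ (algebraMap R C (r * cg ^ n)))
  refine ⟨Polynomial.aeval (MvPolynomial.X i₀) p, ?_⟩
  have h1 : φ₀ (Polynomial.aeval (MvPolynomial.X i₀) p) - r * cg ^ n ∈ m := by
    rw [← Ideal.Quotient.eq]
    apply e.injective
    rw [IsLocalization.AtPrime.equivQuotMaximalIdeal_apply_mk,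
      IsLocalization.AtPrime.equivQuotMaximalIdeal_apply_mk, ← Polynomial.aeval_algHom_apply,
      MvPolynomial.aeval_X]
    refine Eq.trans ?_ hp
    rw [show θ = algebraMap C κ (algebraMap R C (x i₀)) from ((hx i₀).trans (if_pos rfl)).symm]
    exact (Polynomial.aeval_algHom_apply ((IsScalarTower.toAlgHom k C κ).comp
      (IsScalarTower.toAlgHom k R C)) (x i₀) p).symm
  set L := Localization.Away g
  show Ideal.Quotient.mk _ (algebraMap (MvPolynomial (Fin d) k) L _) = _
  rw [IsScalarTower.algebraMap_apply (MvPolynomial (Fin d) k) R L, Ideal.Quotient.eq]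
  set w := IsLocalization.mk' L r (⟨g ^ n, n, rfl⟩ : Submonoid.powers g)
  have hw : w * algebraMap R L (g ^ n) = algebraMap R L r := IsLocalization.mk'_spec _ _ _
  have h2 : (cg * g) ^ n - 1 ∈ m := by
    rw [← Ideal.Quotient.eq, map_pow, Ideal.Quotient.eq.mpr hcg, map_one, one_pow]
  have h3 : algebraMap R L (φ₀ (Polynomial.aeval (MvPolynomial.X i₀) p)) - w =
      algebraMap R L (φ₀ (Polynomial.aeval (MvPolynomial.X i₀) p) - r * cg ^ n) +
        w * algebraMap R L ((cg * g) ^ n - 1) := by
    rw [map_sub, map_sub, map_one, mul_pow, map_mul, map_mul, ← hw]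
    ring
  rw [show algebraMap (MvPolynomial (Fin d) k) R = φ₀.toRingHom from rfl]
  show algebraMap R L (φ₀ _) - w ∈ _
  rw [h3]
  exact add_mem (Ideal.mem_map_of_mem _ h1) (Ideal.mul_mem_left _ _ (Ideal.mem_map_of_mem _ h2))

end GrothLib.LocProp
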