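import Mathlib.RingTheory.Smooth.Fiber
import Mathlib.RingTheory.Smooth.Flat
import Mathlib.RingTheory.Unramified.LocalRing
import Mathlib.RingTheory.Etale.Field

/-!
# Smooth, étale and unramified at a prime: flatness criteria
-/

namespace GrothLib.LocProp

open TensorProduct

universe u v

variable {R : Type u} {S : Type v} [CommRing R] [CommRing S] [Algebra R S]

/-- A local, flat, essentially finitely presented algebra with smooth closed fibre is smooth. -/
theorem isSmoothAt_of_flat [Algebra.FinitePresentation R S] (p : Ideal R) (q : Ideal S) [p.IsPrime]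
    [q.IsPrime] [q.LiesOver p]
    [Algebra (Localization.AtPrime p) (Localization.AtPrime q)]
    [Localization.AtPrime.IsLiesOverAlgebra p q]
    [Module.Flat (Localization.AtPrime p) (Localization.AtPrime q)]
    [Algebra.FormallySmooth (IsLocalRing.ResidueField (Localization.AtPrime p))
      (IsLocalRing.ResidueField (Localization.AtPrime p) ⊗[Localization.AtPrime p]
        Localization.AtPrime q)] :
    Algebra.IsSmoothAt R q := by
  let Rp := Localization.AtPrime p
  let Sp := Localization (Algebra.algebraMapSubmonoid S p.primeCompl)
  let Sq := Localization.AtPrime q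
  let f : Sp →ₐ[S] Sq := IsLocalization.liftAlgHom (M := Algebra.algebraMapSubmonoid S p.primeCompl)
        (f := Algebra.ofId _ _) (by
      rintro ⟨_, x, hx, rfl⟩
      simpa using! IsLocalization.map_units (M := q.primeCompl) Sq ⟨algebraMap _ _ x,
        by simp_all [q.over_def p]⟩)
  algebraize [f.toRingHom]
  have : IsScalarTower R Sp Sq := .to₁₃₄ _ S _ _
  have : IsScalarTower Rp Sp Sq := .of_algebraMap_eq' <| by
    apply IsLocalization.ringHom_ext p.primeCompl
    simp only [RingHom.comp_assoc, ← IsScalarTower.algebraMap_eq]
  have : IsLocalization (Algebra.algebraMapSubmonoid Sp q.primeCompl) Sq :=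
    .isLocalization_of_submonoid_le _ _ (Algebra.algebraMapSubmonoid S p.primeCompl) _
    (by rintro _ ⟨x, hx, rfl⟩; simp_all [q.over_def p])
  have : Algebra.FinitePresentation Rp Sp := by
    have : Algebra.IsPushout R Rp S Sp :=
      .symm <| Algebra.isPushout_of_isLocalization p.primeCompl _ _ _
    exact .equiv (Algebra.IsPushout.equiv R Rp S Sp)
  have := Algebra.FormallySmooth.of_formallySmooth_residueField_tensor
    (R := Rp) (S := Sq) (P := Sp) (Algebra.algebraMapSubmonoid _ q.primeCompl)
  exact .comp R Rp Sq

attribute [local instance] Algebra.FormallyEtale.of_formallyUnramified_of_field in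
/-- Flat and unramified at a prime is étale at that prime. -/
theorem isEtaleAt_of_isUnramifiedAt_of_flat [Algebra.FinitePresentation R S] (p : Ideal R)
    (q : Ideal S) [p.IsPrime] [q.IsPrime] [q.LiesOver p]
    [Algebra (Localization.AtPrime p) (Localization.AtPrime q)]
    [Localization.AtPrime.IsLiesOverAlgebra p q]
    [Module.Flat (Localization.AtPrime p) (Localization.AtPrime q)]
    [Algebra.IsUnramifiedAt R q] : Algebra.IsEtaleAt R q := by
  have : Algebra.FormallyUnramified (Localization.AtPrime p) (Localization.AtPrime q) :=
    .of_restrictScalars R _ _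
  have : Algebra.EssFiniteType (Localization.AtPrime p) (Localization.AtPrime q) := .of_comp R _ _
  have : Algebra.FormallyUnramified (IsLocalRing.ResidueField (Localization.AtPrime p))
      (IsLocalRing.ResidueField (Localization.AtPrime p) ⊗[Localization.AtPrime p]
        Localization.AtPrime q) := inferInstance
  have : Algebra.EssFiniteType (IsLocalRing.ResidueField (Localization.AtPrime p))
      (IsLocalRing.ResidueField (Localization.AtPrime p) ⊗[Localization.AtPrime p]
        Localization.AtPrime q) := inferInstance
  have : Algebra.FormallyEtale (IsLocalRing.ResidueField (Localization.AtPrime p))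
      (IsLocalRing.ResidueField (Localization.AtPrime p) ⊗[Localization.AtPrime p]
        Localization.AtPrime q) := inferInstance
  have := isSmoothAt_of_flat p q
  exact Algebra.FormallyEtale.iff_formallyUnramified_and_formallySmooth.mpr ⟨‹_›, ‹_›⟩

/-- Localizations at a smooth point are flat. -/
theorem flat_of_isSmoothAt [Algebra.FinitePresentation R S] (p : Ideal R) (q : Ideal S) [p.IsPrime]
    [q.IsPrime] [q.LiesOver p]
    [Algebra (Localization.AtPrime p) (Localization.AtPrime q)]
    [Localization.AtPrime.IsLiesOverAlgebra p q] [Algebra.IsSmoothAt R q] :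
    Module.Flat (Localization.AtPrime p) (Localization.AtPrime q) := by
  obtain ⟨r, hr, hS⟩ := Algebra.IsSmoothAt.exists_notMem_smooth R q
  have : Module.Flat R (Localization.Away r) := inferInstance
  let f : Localization.Away r →ₐ[S] Localization.AtPrime q :=
    IsLocalization.Away.liftAlgHom r (f := Algebra.ofId _ _)
      (IsLocalization.map_units (M := q.primeCompl) _ ⟨r, hr⟩)
  algebraize [f.toRingHom]
  have : IsScalarTower R (Localization.Away r) (Localization.AtPrime q) := .to₁₃₄ _ S _ _
  have h2 : IsLocalization (Algebra.algebraMapSubmonoid (Localization.Away r) q.primeCompl)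
      (Localization.AtPrime q) :=
    .isLocalization_of_submonoid_le _ _ (.powers r) _ (by
      rintro _ ⟨n, rfl⟩
      exact fun h ↦ hr (‹q.IsPrime›.mem_of_pow_mem n h))
  have : Module.Flat (Localization.Away r) (Localization.AtPrime q) := IsLocalization.flat _
    (Algebra.algebraMapSubmonoid (Localization.Away r) q.primeCompl)
  have : Module.Flat R (Localization.AtPrime q) := .trans R (Localization.Away r) _
  exact (Module.flat_iff_of_isLocalization (Localization.AtPrime p) p.primeCompl _).mpr this

/-- Étale at a prime iff flat and unramified there. -/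
theorem isEtaleAt_iff [Algebra.FinitePresentation R S] (p : Ideal R)
    (q : Ideal S) [p.IsPrime] [q.IsPrime] [q.LiesOver p]
    [Algebra (Localization.AtPrime p) (Localization.AtPrime q)]
    [Localization.AtPrime.IsLiesOverAlgebra p q] :
    Algebra.IsEtaleAt R q ↔
      Module.Flat (Localization.AtPrime p) (Localization.AtPrime q) ∧ Algebra.IsUnramifiedAt R q := by
  refine ⟨fun h ↦ ?_, fun ⟨_, _⟩ ↦ isEtaleAt_of_isUnramifiedAt_of_flat p q⟩
  obtain ⟨h₁, h₂⟩ := Algebra.FormallyEtale.iff_formallyUnramified_and_formallySmooth.mp h
  have : Algebra.IsSmoothAt R q := h₂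
  exact ⟨flat_of_isSmoothAt p q, h₁⟩

end GrothLib.LocProp
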