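import Groth.Agent.Lib.LocProp.AtPrime
import Mathlib.RingTheory.Etale.Descent
import Mathlib.RingTheory.QuasiFinite.Basic
import Mathlib.Algebra.DualNumber
import Mathlib.FieldTheory.IsAlgClosed.AlgebraicClosure

/-!
# Smooth and quasi-finite at a prime is étale there
-/

namespace GrothLib.LocProp

open TensorProduct Polynomial

universe u v

/-- No finite formally smooth algebra over a field surjects onto the dual numbers. -/
theorem not_surjective_dualNumber {K : Type u} [Field K] {L : Type v} [CommRing L] [Algebra K L]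
    [Module.Finite K L] [Algebra.FormallySmooth K L] (f : L →ₐ[K] DualNumber K) :
    ¬ Function.Surjective f := by
  intro hf
  set N := Module.finrank K L + 2 with hN
  let Q := K[X] ⧸ Ideal.span {(X : K[X]) ^ N}
  let eps : DualNumber K := DualNumber.eps
  let g : Q →ₐ[K] DualNumber K := Ideal.Quotient.liftₐ _ (aeval eps) (by
    intro x hx
    obtain ⟨c, rfl⟩ := Ideal.mem_span_singleton'.mp hx
    rw [hN, map_mul, map_pow, aeval_X, pow_succ, pow_succ, mul_assoc, DualNumber.eps_mul_eps,
      mul_zero, mul_zero])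
  have hg : Function.Surjective g := by
    intro z
    refine ⟨Ideal.Quotient.mk _ (C z.fst + C z.snd * X), ?_⟩
    show aeval eps (C z.fst + C z.snd * X) = z
    refine TrivSqZeroExt.ext ?_ ?_ <;> simp [eps, TrivSqZeroExt.algebraMap_eq_inl]
  have hker : RingHom.ker (g : Q →+* DualNumber K) ≤ Ideal.span {Ideal.Quotient.mk _ X} := by
    intro x hx
    obtain ⟨p, rfl⟩ := Ideal.Quotient.mk_surjective x
    have h0 : TrivSqZeroExt.fstHom K K K (aeval eps p) = 0 := by
      have : aeval eps p = 0 := hx
      rw [this, map_zero]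
    rw [← aeval_algHom_apply] at h0
    have : p.coeff 0 = 0 := by
      rw [coeff_zero_eq_eval_zero]
      simpa [eps, coe_aeval_eq_eval] using h0
    obtain ⟨c, rfl⟩ := X_dvd_iff.mpr this
    exact Ideal.mem_span_singleton.mpr ⟨Ideal.Quotient.mk _ c, by rw [map_mul]⟩
  have hnil : IsNilpotent (RingHom.ker (g : Q →+* DualNumber K)) := by
    refine ⟨N, le_bot_iff.mp ((Ideal.pow_right_mono hker N).trans ?_)⟩
    rw [Ideal.span_singleton_pow, Ideal.span_le, Set.singleton_subset_iff, ← map_pow]
    exact Ideal.Quotient.eq_zero_iff_mem.mpr (Ideal.mem_span_singleton_self _)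
  let ψ := Algebra.FormallySmooth.liftOfSurjective f g hg hnil
  obtain ⟨l, hl⟩ := hf eps
  obtain ⟨q, hq⟩ := Ideal.Quotient.mk_surjective (ψ l)
  have hgq : aeval eps q = eps := by
    have := Algebra.FormallySmooth.liftOfSurjective_apply f g hg hnil l
    rw [show Algebra.FormallySmooth.liftOfSurjective f g hg hnil l = ψ l from rfl, ← hq, hl] at this
    exact this
  have hq0 : q.coeff 0 = 0 := by
    have := congrArg (TrivSqZeroExt.fstHom K K K) hgq
    rw [← aeval_algHom_apply] at this
    rw [coeff_zero_eq_eval_zero]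
    simpa [eps, coe_aeval_eq_eval] using this
  obtain ⟨u, rfl⟩ := X_dvd_iff.mpr hq0
  have hu : u.eval 0 ≠ 0 := by
    intro hu
    obtain ⟨v, rfl⟩ := X_dvd_iff.mpr (coeff_zero_eq_eval_zero u ▸ hu)
    rw [← mul_assoc, ← sq, map_mul, map_pow, aeval_X, sq, DualNumber.eps_mul_eps, zero_mul] at hgq
    simpa [eps] using congrArg TrivSqZeroExt.snd hgq
  have hint : IsIntegral K l := Algebra.IsIntegral.isIntegral l
  set P := minpoly K l
  have hP : P ≠ 0 := minpoly.ne_zero hint
  have hdeg : P.natDegree < N := by
    show (minpoly K l).natDegree < N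
    have := minpoly.natDegree_le (A := K) l
    omega
  obtain ⟨P', hP', hP'0⟩ := P.exists_eq_pow_rootMultiplicity_mul_and_not_dvd hP 0
  set j := P.rootMultiplicity 0
  rw [map_zero, sub_zero] at hP' hP'0
  have hj : j < N := lt_of_le_of_lt (by
    rw [hP', natDegree_mul (pow_ne_zero _ X_ne_zero) (fun h => hP'0 (by rw [h]; exact dvd_zero X)),
      natDegree_X_pow]
    exact Nat.le_add_right _ _) hdeg
  have hz : aeval (ψ l) P = 0 := by rw [aeval_algHom_apply, minpoly.aeval, map_zero]
  rw [← hq, ← Ideal.Quotient.mkₐ_eq_mk K, aeval_algHom_apply, Ideal.Quotient.mkₐ_eq_mk,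
    Ideal.Quotient.eq_zero_iff_mem, Ideal.mem_span_singleton, hP', map_mul, map_pow, aeval_X,
    mul_pow, mul_assoc] at hz
  obtain ⟨k, hk⟩ : ∃ k, N = j + (k + 1) := ⟨N - j - 1, by omega⟩
  rw [hk, pow_add, mul_dvd_mul_iff_left (pow_ne_zero _ X_ne_zero)] at hz
  have hX : (X : K[X]) ∣ u ^ j * aeval (X * u) P' := (dvd_pow_self _ k.succ_ne_zero).trans hz
  rw [X_dvd_iff, coeff_zero_eq_eval_zero, eval_mul, eval_pow] at hX
  have : P'.eval 0 = 0 := by
    rcases mul_eq_zero.mp hX with h | h
    · exact absurd (pow_eq_zero_iff'.mp h).1 hu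
    · rw [← coe_aeval_eq_eval, ← aeval_algHom_apply] at h
      simpa [coe_aeval_eq_eval] using h
  exact hP'0 (X_dvd_iff.mpr (coeff_zero_eq_eval_zero P' ▸ this))

/-- A finite formally smooth algebra over an algebraically closed field is unramified. -/
theorem formallyUnramified_of_finite_aux {K : Type u} [Field K] [IsAlgClosed K] {L : Type v}
    [CommRing L] [Algebra K L] [Module.Finite K L] [Algebra.FormallySmooth K L] :
    Algebra.FormallyUnramified K L := by
  constructor
  by_contra hne
  rw [not_subsingleton_iff_nontrivial] at hne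
  obtain ⟨m, hm⟩ := Module.nonempty_support_iff (R := L).mpr hne
  obtain ⟨M, hM, hmM⟩ := Ideal.exists_le_maximal m.asIdeal m.isPrime.ne_top
  let _ : Field (L ⧸ M) := Ideal.Quotient.field M
  let e : K ≃ₐ[K] L ⧸ M := AlgEquiv.ofBijective (Algebra.ofId K (L ⧸ M))
    (IsAlgClosed.algebraMap_bijective_of_isIntegral (K := L ⧸ M))
  let χ : L →ₐ[K] K := e.symm.toAlgHom.comp (Ideal.Quotient.mkₐ K M)
  let _ : Algebra L K := χ.toRingHom.toAlgebra
  have : IsScalarTower K L K := IsScalarTower.of_algebraMap_eq' χ.comp_algebraMap.symm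
  have hχ : RingHom.ker (algebraMap L K) = M := by
    ext x
    show χ x = 0 ↔ x ∈ M
    simp [χ, Ideal.Quotient.eq_zero_iff_mem]
  have hnt : Nontrivial (K ⊗[L] KaehlerDifferential K L) := by
    by_contra h
    rw [not_nontrivial_iff_subsingleton] at h
    have h2 : Subsingleton ((L ⧸ M) ⊗[L] KaehlerDifferential K L) := by
      let eL : (L ⧸ M) ≃ₗ[L] K := (e.symm.toRingEquiv.toAddEquiv.toLinearEquiv fun c x ↦ by
        obtain ⟨y, rfl⟩ := Ideal.Quotient.mk_surjective x
        show e.symm (Ideal.Quotient.mk M (c * y)) = _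
        rw [map_mul, map_mul]
        rfl)
      exact (TensorProduct.congr eL (LinearEquiv.refl L _)).toEquiv.subsingleton
    rw [(TensorProduct.quotTensorEquivQuotSMul (KaehlerDifferential K L) M).toEquiv.subsingleton_congr,
      Submodule.Quotient.subsingleton_iff] at h2
    obtain ⟨r, hr, hr0⟩ := Submodule.exists_sub_one_mem_and_smul_eq_zero_of_fg_of_le_smul M ⊤
      Module.Finite.fg_top (by rw [h2])
    have hann : r ∈ Module.annihilator L (KaehlerDifferential K L) :=
      Module.mem_annihilator.mpr fun x ↦ hr0 x trivial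
    have := hmM (Module.annihilator_le_of_mem_support hm hann)
    exact hM.ne_top ((Ideal.eq_top_iff_one M).mpr (by simpa using sub_mem this hr))
  obtain ⟨x, hx⟩ := exists_ne (0 : K ⊗[L] KaehlerDifferential K L)
  obtain ⟨φ, hφ⟩ : ∃ φ : Module.Dual K (K ⊗[L] KaehlerDifferential K L), φ x ≠ 0 := by
    by_contra h
    push Not at h
    exact hx ((Module.forall_dual_apply_eq_zero_iff K x).mp h)
  let D : L →ₗ[K] K :=
    (φ.restrictScalars K) ∘ₗ ((TensorProduct.mk L K _ 1).restrictScalars K) ∘ₗ
      (KaehlerDifferential.D K L).toLinearMap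
  have hD : ∀ a b, D (a * b) = χ a * D b + χ b * D a := by
    intro a b
    show φ (1 ⊗ₜ KaehlerDifferential.D K L (a * b)) = _
    rw [Derivation.leibniz, TensorProduct.tmul_add, map_add, TensorProduct.tmul_smul,
      TensorProduct.tmul_smul, ← algebraMap_smul K a, ← algebraMap_smul K b, map_smul, map_smul]
    rfl
  have hD0 : ∃ a, D a ≠ 0 := by
    by_contra h
    push Not at h
    have hφ0 : φ ∘ₗ ((TensorProduct.mk L K (KaehlerDifferential K L) 1).liftBaseChange K) = 0 := by
      refine LinearMap.ext fun z ↦ ?_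
      induction z using TensorProduct.induction_on with
      | zero => simp
      | tmul c ω =>
        have hω : ω ∈ Submodule.span L (Set.range (KaehlerDifferential.D K L)) := by
          rw [KaehlerDifferential.span_range_derivation]; trivial
        simp only [LinearMap.comp_apply, LinearMap.liftBaseChange_tmul, map_smul,
          TensorProduct.mk_apply, LinearMap.zero_apply, smul_eq_mul, mul_eq_zero]
        right
        induction hω using Submodule.span_induction with
        | mem y hy => obtain ⟨a, rfl⟩ := hy; exact h a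
        | zero => simp
        | add y z _ _ hy hz => simp [TensorProduct.tmul_add, hy, hz]
        | smul r y _ hy =>
          rw [TensorProduct.tmul_smul, ← algebraMap_smul K r, map_smul, hy, smul_zero]
      | add y z hy hz => rw [map_add, map_add, hy, hz]
    refine hφ ?_
    have hid : (TensorProduct.mk L K (KaehlerDifferential K L) 1).liftBaseChange K x = x := by
      clear hx hφ
      induction x using TensorProduct.induction_on with
      | zero => simp
      | tmul c ω => simp [TensorProduct.smul_tmul']
      | add y z hy hz => simp [map_add, hy, hz]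
    have := LinearMap.congr_fun hφ0 x
    rwa [LinearMap.comp_apply, hid] at this
  obtain ⟨a, ha⟩ := hD0
  have hD1 : D 1 = 0 := by
    show φ (1 ⊗ₜ KaehlerDifferential.D K L 1) = 0
    simp
  let f₀ : L →ₗ[K] DualNumber K :=
    { toFun := fun l ↦ TrivSqZeroExt.inl (χ l) + TrivSqZeroExt.inr (D l)
      map_add' := fun y z ↦ TrivSqZeroExt.ext (by simp) (by simp)
      map_smul' := fun c y ↦ TrivSqZeroExt.ext (by simp) (by simp) }
  let f : L →ₐ[K] DualNumber K := AlgHom.ofLinearMap f₀
    (TrivSqZeroExt.ext (by simp [f₀]) (by simp [f₀, hD1]))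
    (fun y z ↦ TrivSqZeroExt.ext (by simp [f₀]) (by simp [f₀, hD]; ring))
  refine not_surjective_dualNumber f fun z ↦
    ⟨algebraMap K L z.fst + (z.snd / D a) • (a - algebraMap K L (χ a)), ?_⟩
  have hDc : ∀ c : K, D (algebraMap K L c) = 0 := fun c ↦ by
    show φ (1 ⊗ₜ KaehlerDifferential.D K L (algebraMap K L c)) = 0
    simp
  refine TrivSqZeroExt.ext ?_ ?_ <;> simp [f, f₀, hDc, ha]

/-- A finite formally smooth algebra over a field is unramified. -/
theorem formallyUnramified_of_finite {k : Type u} [Field k] {F : Type u} [CommRing F] [Algebra k F]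
    [Module.Finite k F] [Algebra.FormallySmooth k F] : Algebra.FormallyUnramified k F := by
  have := formallyUnramified_of_finite_aux (K := AlgebraicClosure k) (L := AlgebraicClosure k ⊗[k] F)
  exact .of_formallyUnramified_tensorProduct_of_faithfullyFlat (AlgebraicClosure k)

attribute [local instance] Algebra.TensorProduct.rightAlgebra in
/-- Smooth and quasi-finite at a prime implies étale there. -/
theorem isEtaleAt_of_isSmoothAt_of_quasiFiniteAt {R S : Type u} [CommRing R] [CommRing S]
    [Algebra R S] [Algebra.FiniteType R S] (q : Ideal S) [q.IsPrime] [Algebra.QuasiFiniteAt R q]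
    [h : Algebra.IsSmoothAt R q] : Algebra.IsEtaleAt R q := by
  let p := q.under R
  let Sq := Localization.AtPrime q
  let F := p.ResidueField ⊗[R] Sq
  have : Module.Finite p.ResidueField F := Algebra.QuasiFinite.finite_fiber p
  have hF : Algebra.FormallyUnramified p.ResidueField F := formallyUnramified_of_finite
  suffices Algebra.FormallyUnramified R Sq from
    Algebra.FormallyEtale.iff_formallyUnramified_and_formallySmooth.mpr ⟨this, h⟩
  constructor
  have hsub : Subsingleton (F ⊗[Sq] KaehlerDifferential R Sq) := by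
    have := hF.subsingleton_kaehlerDifferential
    exact (KaehlerDifferential.tensorKaehlerEquiv R p.ResidueField Sq F).toEquiv.subsingleton
  have hle : p ≤ q.comap (algebraMap R S) := le_rfl
  let κ := IsLocalRing.ResidueField Sq
  let τ : F →ₐ[R] κ := Algebra.TensorProduct.lift (Ideal.ResidueField.mapₐ p q (Algebra.ofId R S) rfl)
    (IsScalarTower.toAlgHom R Sq κ) fun _ _ ↦ .all _ _
  let τ' : F →ₗ[Sq] κ :=
    { toFun := τ
      map_add' := map_add τ
      map_smul' := fun c x ↦ by
        simp only [RingHom.id_apply, Algebra.smul_def, map_mul]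
        congr 1
        show τ (1 ⊗ₜ c) = _
        rw [Algebra.TensorProduct.lift_tmul, map_one, one_mul]
        rfl }
  have hsurj : Function.Surjective τ' := fun x ↦ by
    obtain ⟨c, rfl⟩ := IsLocalRing.residue_surjective x
    refine ⟨1 ⊗ₜ c, ?_⟩
    show τ (1 ⊗ₜ c) = _
    rw [Algebra.TensorProduct.lift_tmul, map_one, one_mul]
    rfl
  have : Subsingleton (κ ⊗[Sq] KaehlerDifferential R Sq) :=
    (LinearMap.rTensor_surjective _ hsurj).subsingleton
  exact IsLocalRing.subsingleton_tensorProduct.mp this

end GrothLib.LocProp
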