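import Groth.Agent.Lib.LocProp.AtPrime
import Mathlib.RingTheory.LocalRing.ResidueField.Fiber
import Mathlib.RingTheory.Smooth.Locus
import Mathlib.RingTheory.TensorProduct.Quotient

/-!
# Smoothness at a prime and fibres
-/

namespace GrothLib.LocProp

open TensorProduct IsLocalRing

universe u

/-- Smoothness at a prime is stable under base change. -/
theorem isSmoothAt_baseChange (A T B : Type u) [CommRing A] [CommRing T] [CommRing B] [Algebra A T]
    [Algebra A B] [Algebra.FinitePresentation A B] (Q : Ideal (T ⊗[A] B)) [Q.IsPrime]
    (h : Algebra.IsSmoothAt A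
      (Q.comap (Algebra.TensorProduct.includeRight : B →ₐ[A] T ⊗[A] B).toRingHom)) :
    Algebra.IsSmoothAt T Q := by
  obtain ⟨f, hf, hsm⟩ := Algebra.IsSmoothAt.exists_notMem_smooth A
    (Q.comap (Algebra.TensorProduct.includeRight : B →ₐ[A] T ⊗[A] B).toRingHom)
  have : Algebra.Smooth T (Localization.Away ((1 : T) ⊗ₜ[A] f)) :=
    .of_equiv (IsLocalization.Away.tensorProductEquivTMulRight A T f (Localization.Away f))
  exact (Algebra.basicOpen_subset_smoothLocus_iff_smooth.mpr this)
    (show (⟨Q, inferInstance⟩ : PrimeSpectrum _) ∈ PrimeSpectrum.basicOpen _ from hf)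

set_option maxRecDepth 4000 in
set_option backward.isDefEq.respectTransparency false in
/-- Flat with fibre smooth at a prime implies smooth at that prime. -/
theorem isSmoothAt_of_flat_of_fibre {A B : Type u} [CommRing A] [CommRing B] [Algebra A B]
    [Algebra.FinitePresentation A B] (p : Ideal A) [p.IsPrime] (q₀ : Ideal (p.Fiber B)) [q₀.IsPrime]
    (h : Algebra.IsSmoothAt p.ResidueField q₀)
    (hflat : Module.Flat A
      (Localization.AtPrime (q₀.comap (Algebra.TensorProduct.includeRight (R := A) (A := p.ResidueField) (B := B))))) :
    Algebra.IsSmoothAt A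
      (q₀.comap (Algebra.TensorProduct.includeRight (R := A) (A := p.ResidueField) (B := B))) := by
  set q := q₀.comap (Algebra.TensorProduct.includeRight (R := A) (A := p.ResidueField) (B := B))
  have : q.LiesOver p := ⟨by
    rw [Ideal.over_def q₀ p, Ideal.under_def, Ideal.under_def]
    ext a
    simp [q, Algebra.TensorProduct.includeRight_apply]⟩
  let := Localization.AtPrime.algebraOfLiesOver p q
  have : Module.Flat (Localization.AtPrime p) (Localization.AtPrime q) :=
    (Module.flat_iff_of_isLocalization (Localization.AtPrime p) p.primeCompl _).mpr hflat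
  have : Algebra.FormallySmooth p.ResidueField
      (ResidueField (Localization.AtPrime p) ⊗[Localization.AtPrime p] Localization.AtPrime q) := by
    let e₀ : Localization.AtPrime q₀ ≃ₐ[Localization.AtPrime p]
        ResidueField (Localization.AtPrime p) ⊗[Localization.AtPrime p] Localization.AtPrime q :=
      (Ideal.Fiber.localizationAlgEquivQuotient p q₀).trans <|
        (Ideal.quotientEquivAlgOfEq (Localization.AtPrime p) (by
          rw [← Localization.AtPrime.map_eq_maximalIdeal, Ideal.map_map,
            ← IsScalarTower.algebraMap_eq] :
          p.map (algebraMap A (Localization.AtPrime q)) =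
            (maximalIdeal (Localization.AtPrime p)).map
              (algebraMap (Localization.AtPrime p) (Localization.AtPrime q)))).trans <|
        ((Algebra.TensorProduct.quotIdealMapEquivTensorQuot (Localization.AtPrime q)
          (maximalIdeal (Localization.AtPrime p))).restrictScalars (Localization.AtPrime p)).trans
          (Algebra.TensorProduct.comm _ _ _)
    let e : Localization.AtPrime q₀ ≃ₐ[p.ResidueField]
        ResidueField (Localization.AtPrime p) ⊗[Localization.AtPrime p] Localization.AtPrime q :=
      { e₀ with
        commutes' := fun r ↦ by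
          obtain ⟨r, rfl⟩ := residue_surjective r
          have h₁ := IsScalarTower.algebraMap_apply (Localization.AtPrime p) p.ResidueField
            (Localization.AtPrime q₀) r
          have h₂ := IsScalarTower.algebraMap_apply (Localization.AtPrime p) p.ResidueField
            (ResidueField (Localization.AtPrime p) ⊗[Localization.AtPrime p] Localization.AtPrime q) r
          refine ((congrArg e₀ ?_).trans (e₀.commutes r)).trans ?_
          · exact h₁.symm
          · exact h₂ }
    have h' : Algebra.FormallySmooth p.ResidueField (Localization.AtPrime q₀) := h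
    exact Algebra.FormallySmooth.of_equiv (A := Localization.AtPrime q₀) e
  exact isSmoothAt_of_flat p q

end GrothLib.LocProp
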