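import Groth.Agent.Lib.Hensel.Regular
import Groth.Agent.Lib.Serre.Ring
import Groth.Agent.Lib.LocProp.AtPrime
import Mathlib.RingTheory.RegularLocalRing.Polynomial
import Mathlib.RingTheory.MvPolynomial.Localization
import Mathlib.RingTheory.Unramified.LocalStructure
import Mathlib.RingTheory.Ideal.KrullsHeightTheorem

/-!
# Regularity along smooth algebras
-/

namespace GrothLib.LocProp

open IsLocalRing

universe u

/-- Regularity along a flat local homomorphism generating the maximal ideal. -/
theorem isRegularLocalRing_iff_of_flat_of_map_maximalIdeal {R S : Type u} [CommRing R]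
    [IsLocalRing R] [IsNoetherianRing R] [CommRing S] [IsLocalRing S] [IsNoetherianRing S]
    [Algebra R S] [Module.Flat R S]
    (hmax : (maximalIdeal R).map (algebraMap R S) = maximalIdeal S) :
    IsRegularLocalRing R ↔ IsRegularLocalRing S := by
  refine Hensel.isRegularLocalRing_iff_of_flat hmax ?_
  have : (maximalIdeal S).LiesOver (maximalIdeal R) :=
    ⟨(maximalIdeal.isMaximal R).eq_of_le (Ideal.IsPrime.ne_top inferInstance)
      (Ideal.map_le_iff_le_comap.mp hmax.le)⟩
  have h := Ideal.height_eq_height_add_of_liesOver_of_hasGoingDown (maximalIdeal R) (maximalIdeal S)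
  rw [hmax, Ideal.map_quotient_self] at h
  have : Nontrivial (S ⧸ maximalIdeal S) := Ideal.Quotient.nontrivial_iff.mpr (maximalIdeal.isMaximal S).ne_top
  rw [Ideal.height_bot, add_zero] at h
  rw [← maximalIdeal_height_eq_ringKrullDim, ← maximalIdeal_height_eq_ringKrullDim, h]

/-- A polynomial ring over a ring with regular local ring at `p` is regular over `p`. -/
theorem isRegularLocalRing_mvPolynomial_of_comap {A : Type u} [CommRing A] (n : ℕ)
    (P : Ideal (MvPolynomial (Fin n) A)) [P.IsPrime]
    [IsRegularLocalRing (Localization.AtPrime (P.comap MvPolynomial.C))] :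
    IsRegularLocalRing (Localization.AtPrime P) := by
  set p := P.comap (MvPolynomial.C (σ := Fin n))
  let S := MvPolynomial (Fin n) (Localization.AtPrime p)
  let M := p.primeCompl.map (MvPolynomial.C (σ := Fin n))
  let : Algebra (MvPolynomial (Fin n) A) S := MvPolynomial.algebraMvPolynomial
  have : IsLocalization M S := MvPolynomial.isLocalization _ _
  have := Serre.isRegularRing_of_isRegularLocalRing (Localization.AtPrime p)
  have disj : Disjoint (M : Set (MvPolynomial (Fin n) A)) (P : Set (MvPolynomial (Fin n) A)) := by
    refine Set.disjoint_left.mpr ?_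
    rintro _ ⟨a, ha, rfl⟩ haP
    exact ha haP
  let PS := P.map (algebraMap (MvPolynomial (Fin n) A) S)
  have : PS.IsPrime := IsLocalization.isPrime_of_isPrime_disjoint M _ _ ‹_› disj
  have : IsLocalization.AtPrime (Localization.AtPrime PS) P := by
    convert IsLocalization.isLocalization_isLocalization_atPrime_isLocalization M
      (Localization.AtPrime PS) PS
    exact (IsLocalization.under_map_of_isPrime_disjoint M _ ‹_› disj).symm
  exact IsRegularLocalRing.of_ringEquiv (R := Localization.AtPrime PS) (IsLocalization.algEquiv P.primeCompl
    (Localization.AtPrime PS) (Localization.AtPrime P)).toRingEquiv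

/-- Regularity at a smooth point is regularity of the base. -/
theorem isRegularLocalRing_iff_of_isSmoothAt {A B : Type u} [CommRing A] [CommRing B] [Algebra A B]
    [IsNoetherianRing A] [Algebra.FinitePresentation A B] (q : Ideal B) [q.IsPrime]
    [Algebra.IsSmoothAt A q] :
    IsRegularLocalRing (Localization.AtPrime q) ↔
      IsRegularLocalRing (Localization.AtPrime (q.under A)) := by
  constructor
  · intro _
    let := Localization.AtPrime.algebraOfLiesOver (q.under A) q
    have := flat_of_isSmoothAt (q.under A) q
    exact Serre.isRegularLocalRing_of_flat _ (Localization.AtPrime q)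
  intro hreg
  obtain ⟨f, hf, n, alg, tower, het⟩ :=
    Algebra.IsSmoothAt.exists_isStandardEtale_mvPolynomial (R := A) (p := q)
  let C := Localization.Away f
  have disj : Disjoint (Submonoid.powers f : Set B) (q : Set B) :=
    (Ideal.disjoint_powers_iff_notMem_of_isPrime _).mpr hf
  let Q := q.map (algebraMap B C)
  have : Q.IsPrime := IsLocalization.isPrime_of_isPrime_disjoint (.powers f) _ _ ‹_› disj
  have hQq : Q.under B = q := IsLocalization.under_map_of_isPrime_disjoint (.powers f) _ ‹_› disj
  have : IsLocalization.AtPrime (Localization.AtPrime Q) q := by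
    have := IsLocalization.isLocalization_isLocalization_atPrime_isLocalization (Submonoid.powers f)
      (Localization.AtPrime Q) Q
    simpa only [show Q.comap (algebraMap B C) = q from hQq] using this
  let P0 := Q.under (MvPolynomial (Fin n) A)
  have hP0 : P0.comap MvPolynomial.C = q.under A := by
    rw [← hQq, Ideal.under_under, ← Ideal.under_under (A := A) (B := MvPolynomial (Fin n) A)]
    rfl
  have : IsRegularLocalRing (Localization.AtPrime (P0.comap MvPolynomial.C)) := by
    have key : ∀ (I : Ideal A) [I.IsPrime], I = q.under A →
        IsRegularLocalRing (Localization.AtPrime I) := by rintro I _ rfl; exact hreg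
    exact key _ hP0
  have hP := isRegularLocalRing_mvPolynomial_of_comap n P0
  let := Localization.AtPrime.algebraOfLiesOver P0 Q
  have : IsNoetherianRing C := Algebra.FiniteType.isNoetherianRing (MvPolynomial (Fin n) A) C
  have : Algebra.IsUnramifiedAt (MvPolynomial (Fin n) A) Q :=
    Algebra.FormallyUnramified.comp _ C (Localization.AtPrime Q)
  have : Module.Flat (Localization.AtPrime P0) (Localization.AtPrime Q) :=
    (Module.flat_iff_of_isLocalization (Localization.AtPrime P0) P0.primeCompl _).mpr
      (Module.Flat.trans _ C _)
  have hmap := ((Algebra.isUnramifiedAt_iff_map_eq _ P0 Q).mp ‹_›).2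
  rw [IsScalarTower.algebraMap_eq _ (Localization.AtPrime P0) (Localization.AtPrime Q),
    ← Ideal.map_map, Localization.AtPrime.map_eq_maximalIdeal] at hmap
  have := (isRegularLocalRing_iff_of_flat_of_map_maximalIdeal hmap).mp hP
  exact IsRegularLocalRing.of_ringEquiv (IsLocalization.algEquiv q.primeCompl
    (Localization.AtPrime Q) (Localization.AtPrime q)).toRingEquiv

end GrothLib.LocProp
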