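import Groth.Agent.Lib.LocProp.SmoothDescent
import Groth.Agent.Lib.LocProp.FibreSmooth
import Groth.Agent.Lib.LocProp.RegularSmooth
import Groth.Agent.Lib.LocProp.SmoothRegularLocal
import Groth.Agent.Lib.Flatness.Fibre
import Mathlib.FieldTheory.IsAlgClosed.AlgebraicClosure

/-!
# Smoothness descends along maps flat at a point
-/

namespace GrothLib.LocProp

open TensorProduct IsLocalRing

universe u

attribute [local instance] Algebra.TensorProduct.rightAlgebra

theorem isRegularLocalRing_of_isSmoothAt_field {k S : Type u} [Field k] [CommRing S] [Algebra k S]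
    [Algebra.FinitePresentation k S] (Q : Ideal S) [Q.IsPrime] [Algebra.IsSmoothAt k Q] :
    IsRegularLocalRing (Localization.AtPrime Q) := by
  rw [isRegularLocalRing_iff_of_isSmoothAt (A := k) Q]
  exact IsRegularLocalRing.of_ringEquiv (R := k) (IsLocalization.atUnits k (Q.under k).primeCompl
    (S := Localization.AtPrime (Q.under k)) fun x hx ↦ isUnit_iff_ne_zero.mpr fun h ↦ hx (by
      rw [h]; exact Ideal.zero_mem _)).toRingEquiv

theorem isSmoothAt_of_algEquiv {R S T : Type u} [CommRing R] [CommRing S] [CommRing T]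
    [Algebra R S] [Algebra R T] (e : S ≃ₐ[R] T) (Q : Ideal T) [Q.IsPrime]
    (h : Algebra.IsSmoothAt R Q) : Algebra.IsSmoothAt R (Q.comap e.toAlgHom.toRingHom) := by
  have : Algebra.FormallySmooth R (Localization.AtPrime Q) := h
  exact Algebra.FormallySmooth.of_equiv (A := Localization.AtPrime Q)
    (Localization.localAlgEquiv (Q.comap e.toAlgHom.toRingHom) Q e rfl).symm

/-- A base change to an algebraically closed field of a map flat at a point: smoothness descends. -/
theorem isSmoothAt_descends_fibre {A B C : Type u} [CommRing A] [CommRing B] [CommRing C]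
    [Algebra A B] [Algebra B C] [Algebra A C] [IsScalarTower A B C]
    [Algebra.FinitePresentation A B] [Algebra.FinitePresentation A C]
    (qC : Ideal C) [qC.IsPrime] [Algebra.IsSmoothAt A qC]
    (hflat : Module.Flat B (Localization.AtPrime qC)) (K : Type u) [Field K] [IsAlgClosed K]
    [Algebra A K] (φ : Localization.AtPrime qC →ₐ[A] K)
    (hφ : RingHom.ker φ = maximalIdeal (Localization.AtPrime qC)) (Qb : Ideal (K ⊗[A] B))
    [Qb.IsPrime] (hQb₀ : Qb = RingHom.ker (Algebra.TensorProduct.lift (AlgHom.id A K)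
      ((φ.comp (IsScalarTower.toAlgHom A C (Localization.AtPrime qC))).comp
        (IsScalarTower.toAlgHom A B C)) fun _ _ ↦ Commute.all _ _)) :
    Algebra.IsSmoothAt K Qb := by
  set M := Localization.AtPrime qC
  let ψ : K ⊗[A] M →ₐ[A] K :=
    Algebra.TensorProduct.lift (AlgHom.id A K) φ fun _ _ ↦ Commute.all _ _
  let gC : K ⊗[A] C →ₐ[K] K ⊗[A] M :=
    Algebra.TensorProduct.map (AlgHom.id K K) (IsScalarTower.toAlgHom A C M)
  let gB : K ⊗[A] B →ₐ[K] K ⊗[A] M :=
    Algebra.TensorProduct.map (AlgHom.id K K) (IsScalarTower.toAlgHom A B M)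
  let QM := RingHom.ker ψ
  have : QM.IsPrime := RingHom.ker_isPrime _
  have hQb : Qb = QM.comap gB := by
    have hcomp : Algebra.TensorProduct.lift (AlgHom.id A K)
        ((φ.comp (IsScalarTower.toAlgHom A C M)).comp (IsScalarTower.toAlgHom A B C))
        (fun _ _ ↦ Commute.all _ _) = ψ.comp (gB.restrictScalars A) := by
      refine Algebra.TensorProduct.ext (AlgHom.ext fun x ↦ ?_) (AlgHom.ext fun x ↦ ?_)
      · simp [ψ, gB]
      · simp [ψ, gB, IsScalarTower.algebraMap_apply B C M]
    rw [hQb₀, hcomp]
    rfl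
  -- regularity upstairs
  algebraize [gC.toRingHom]
  have : IsScalarTower K (K ⊗[A] C) (K ⊗[A] M) := .of_algebraMap_eq' gC.comp_algebraMap.symm
  have hloc : IsLocalization (qC.primeCompl.map
      (Algebra.TensorProduct.includeRight (R := A) (A := K) (B := C))) (K ⊗[A] M) :=
    IsLocalization.tensorProduct_tensorProduct_right A K qC.primeCompl M
      (by ext c; simp [RingHom.algebraMap_toAlgebra, gC])
  let Q := QM.comap gC.toRingHom
  have hQ : Q.comap (Algebra.TensorProduct.includeRight (R := A) (A := K) (B := C)).toRingHom = qC := by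
    ext c
    simp only [Q, QM, ψ, gC, Ideal.mem_comap, RingHom.mem_ker]
    rw [← IsLocalization.AtPrime.to_map_mem_maximal_iff M qC, ← hφ, RingHom.mem_ker]
    simp
  have : Algebra.IsSmoothAt A
      (Q.comap (Algebra.TensorProduct.includeRight (R := A) (A := K) (B := C)).toRingHom) := by
    have key : ∀ (I : Ideal C) [I.IsPrime], I = qC → Algebra.IsSmoothAt A I := by
      rintro I _ rfl; assumption
    exact key _ hQ
  have := isSmoothAt_baseChange A K C Q this
  have hregQ := isRegularLocalRing_of_isSmoothAt_field (k := K) Q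
  have : IsLocalization.AtPrime (Localization.AtPrime QM) Q :=
    IsLocalization.isLocalization_isLocalization_atPrime_isLocalization
      (qC.primeCompl.map (Algebra.TensorProduct.includeRight (R := A) (A := K) (B := C)))
      (Localization.AtPrime QM) QM
  have : IsRegularLocalRing (Localization.AtPrime QM) :=
    IsRegularLocalRing.of_ringEquiv (R := Localization.AtPrime Q) (IsLocalization.algEquiv Q.primeCompl
      (Localization.AtPrime Q) (Localization.AtPrime QM)).toRingEquiv
  -- flatness
  algebraize [gB.toRingHom]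
  let : Algebra B (K ⊗[A] M) := ((algebraMap M (K ⊗[A] M)).comp (algebraMap B M)).toAlgebra
  have : IsScalarTower B M (K ⊗[A] M) := .of_algebraMap_eq' rfl
  have : IsScalarTower B (K ⊗[A] B) (K ⊗[A] M) := .of_algebraMap_eq fun b ↦ by
    simp [RingHom.algebraMap_toAlgebra, gB]
  have : IsScalarTower A (K ⊗[A] B) (K ⊗[A] M) :=
    .of_algebraMap_eq' (gB.restrictScalars A).comp_algebraMap.symm
  have : IsScalarTower K (K ⊗[A] B) (K ⊗[A] M) := .of_algebraMap_eq' gB.comp_algebraMap.symm
  have : Algebra.IsPushout A B K (K ⊗[A] B) := .symm inferInstance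
  have h0 : Algebra.IsPushout A M K (K ⊗[A] M) := .symm inferInstance
  have hpush : Algebra.IsPushout B (K ⊗[A] B) M (K ⊗[A] M) :=
    .symm ((Algebra.IsPushout.comp_iff (R := A) (S := B) (R' := K) (S' := K ⊗[A] B) (T := M)
      (T' := K ⊗[A] M)).mp h0)
  have : Module.Flat (K ⊗[A] B) (K ⊗[A] M) :=
    Module.Flat.isBaseChange B (K ⊗[A] B) M _ hpush.out
  have : QM.LiesOver Qb := ⟨hQb⟩
  let := Localization.AtPrime.algebraOfLiesOver Qb QM
  have : Module.Flat (Localization.AtPrime Qb) (Localization.AtPrime QM) :=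
    (Module.flat_iff_of_isLocalization (Localization.AtPrime Qb) Qb.primeCompl _).mpr
      (Module.Flat.trans _ (K ⊗[A] M) _)
  have : IsNoetherianRing (K ⊗[A] B) := Algebra.FiniteType.isNoetherianRing K _
  have : IsRegularLocalRing (Localization.AtPrime Qb) :=
    Serre.isRegularLocalRing_of_flat _ (Localization.AtPrime QM)
  exact isSmoothAt_of_isRegularLocalRing_of_perfectField Qb

theorem exists_fibre_smooth {A B : Type u} [CommRing A] [CommRing B] [Algebra A B]
    [Algebra.FinitePresentation A B] (p : Ideal A) [p.IsPrime] (K : Type u) [Field K] [Algebra A K]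
    [Algebra p.ResidueField K] [IsScalarTower A p.ResidueField K] (Qb : Ideal (K ⊗[A] B))
    [Qb.IsPrime] (h : Algebra.IsSmoothAt K Qb) :
    ∃ (q₀ : Ideal ((p.ResidueField ⊗[A] B))) (_ : q₀.IsPrime), Algebra.IsSmoothAt p.ResidueField q₀ ∧
      q₀.comap (Algebra.TensorProduct.includeRight (R := A) (A := p.ResidueField) (B := B)) =
        Qb.comap (Algebra.TensorProduct.includeRight (R := A) (A := K) (B := B)) := by
  obtain ⟨e, he⟩ : ∃ e : K ⊗[p.ResidueField] ((p.ResidueField ⊗[A] B)) ≃ₐ[K] K ⊗[A] B,
      ∀ b : B, e (1 ⊗ₜ[p.ResidueField] (1 ⊗ₜ[A] b)) = 1 ⊗ₜ[A] b :=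
    ⟨Algebra.TensorProduct.cancelBaseChange A p.ResidueField K K B, fun b ↦ by simp⟩
  let Q' : Ideal (K ⊗[p.ResidueField] (p.ResidueField ⊗[A] B)) := Qb.comap e.toAlgHom.toRingHom
  have : Q'.IsPrime := Ideal.comap_isPrime _ Qb
  have hQ' : Algebra.IsSmoothAt (A := K ⊗[p.ResidueField] (p.ResidueField ⊗[A] B)) K Q' :=
    isSmoothAt_of_algEquiv e Qb h
  refine ⟨Q'.comap
    (Algebra.TensorProduct.includeRight : (p.ResidueField ⊗[A] B) →ₐ[p.ResidueField] K ⊗[p.ResidueField] (p.ResidueField ⊗[A] B)).toRingHom,
    inferInstance, isSmoothAt_of_baseChange _ _ _ Q' hQ', ?_⟩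
  ext b
  simp [Q', he]

/-- Smoothness at a point descends along maps flat at that point. -/
theorem isSmoothAt_descends {A B C : Type u} [CommRing A] [CommRing B] [CommRing C]
    [Algebra A B] [Algebra B C] [Algebra A C] [IsScalarTower A B C]
    [Algebra.FinitePresentation A B] [Algebra.FinitePresentation A C]
    (qC : Ideal C) [qC.IsPrime] [Algebra.IsSmoothAt A qC]
    (hflat : Module.Flat B (Localization.AtPrime qC)) :
    Algebra.IsSmoothAt A (qC.under B) := by
  set M := Localization.AtPrime qC
  set q := qC.under B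
  set p := q.under A
  let := Localization.AtPrime.algebraOfLiesOver q qC
  have : Module.Flat (Localization.AtPrime q) M :=
    (Module.flat_iff_of_isLocalization (Localization.AtPrime q) q.primeCompl _).mpr hflat
  have : Module.FaithfullyFlat (Localization.AtPrime q) M := .of_flat_of_isLocalHom
  have hflatM : Module.Flat A M := by
    let := Localization.AtPrime.algebraOfLiesOver (qC.under A) qC
    have := flat_of_isSmoothAt (qC.under A) qC
    exact .trans A (Localization.AtPrime (qC.under A)) M
  have hflatq : Module.Flat A (Localization.AtPrime q) :=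
    Flatness.flat_of_faithfullyFlat (R := A) (S := Localization.AtPrime q) (M := M)
  let K := AlgebraicClosure (ResidueField M)
  let φ : M →ₐ[A] K := IsScalarTower.toAlgHom A M K
  have hφ : RingHom.ker φ = maximalIdeal M := by
    refine Eq.trans ?_ (Ideal.mk_ker (I := maximalIdeal M))
    ext x
    rw [RingHom.mem_ker, RingHom.mem_ker]
    show algebraMap M K x = 0 ↔ residue M x = 0
    rw [IsScalarTower.algebraMap_apply M (ResidueField M) K, map_eq_zero,
      ResidueField.algebraMap_eq]
  have hp : RingHom.ker (algebraMap A K) = p := by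
    ext a
    rw [RingHom.mem_ker, ← φ.commutes a, ← RingHom.mem_ker, hφ,
      IsScalarTower.algebraMap_apply A C M, IsLocalization.AtPrime.to_map_mem_maximal_iff M qC,
      IsScalarTower.algebraMap_apply A B C]
    rfl
  let ι : p.ResidueField →ₐ[A] K := Ideal.ResidueField.liftₐ p (Algebra.ofId A K) hp.ge (by
    intro a ha
    refine isUnit_iff_ne_zero.mpr fun h ↦ ha ?_
    exact hp.le h)
  algebraize [ι.toRingHom]
  have : IsScalarTower A p.ResidueField K := .of_algebraMap_eq' ι.comp_algebraMap.symm
  set Qb := RingHom.ker (Algebra.TensorProduct.lift (AlgHom.id A K)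
      ((φ.comp (IsScalarTower.toAlgHom A C M)).comp
        (IsScalarTower.toAlgHom A B C)) fun _ _ ↦ Commute.all _ _) with hQb
  have : Qb.IsPrime := RingHom.ker_isPrime _
  obtain ⟨q₀, _, hq₀, hq₀'⟩ := exists_fibre_smooth p K Qb
    (isSmoothAt_descends_fibre (B := B) qC hflat K φ hφ Qb hQb)
  have hq : q₀.comap (Algebra.TensorProduct.includeRight (R := A) (A := p.ResidueField) (B := B)) = q := by
    rw [hq₀']
    ext b
    rw [Ideal.mem_comap, hQb, RingHom.mem_ker]
    show _ ↔ algebraMap B C b ∈ qC
    rw [← IsLocalization.AtPrime.to_map_mem_maximal_iff M qC, ← hφ, RingHom.mem_ker]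
    simp
  have key : ∀ (I : Ideal B) [I.IsPrime], I = q → Module.Flat A (Localization.AtPrime I) := by
    rintro I _ rfl; exact hflatq
  have h := isSmoothAt_of_flat_of_fibre p q₀ hq₀ (key _ hq)
  have key' : ∀ (I : Ideal B) [I.IsPrime], I = q → Algebra.IsSmoothAt A I →
      Algebra.IsSmoothAt A q := by
    rintro I _ rfl h; exact h
  exact key' _ hq h

end GrothLib.LocProp
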