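import Groth.Agent.Lib.LocProp.SmoothDescendFlat
import Groth.Prelude.Def_Found
import Mathlib.RingTheory.Jacobson.Ring
import Mathlib.RingTheory.Smooth.Flat

/-!
# Smooth iff flat with geometrically regular fibres
-/

namespace GrothLib.LocProp

open TensorProduct IsLocalRing

universe u

theorem isGeometricallyRegular_of_smooth (k S : Type u) [Field k] [CommRing S] [Algebra k S]
    [Algebra.Smooth k S] : CAlg.IsGeometricallyRegular k S := by
  intro k' _ _ _
  have : IsNoetherianRing (k' ⊗[k] S) := Algebra.FiniteType.isNoetherianRing k' _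
  refine isRegularRing_iff.mpr fun Q _ ↦ ?_
  have : Algebra.IsSmoothAt k' Q :=
    (Set.eq_univ_iff_forall.mp (Algebra.smoothLocus_eq_univ (R := k') (A := k' ⊗[k] S)))
      ⟨Q, inferInstance⟩
  exact isRegularLocalRing_of_isSmoothAt_field (k := k') Q

theorem isSmoothAt_of_isMaximal (k S : Type u) [Field k] [CommRing S] [Algebra k S]
    [Algebra.FinitePresentation k S] (h : CAlg.IsGeometricallyRegular k S) (m : Ideal S)
    [m.IsMaximal] : Algebra.IsSmoothAt k m := by
  let := Ideal.Quotient.field m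
  have hfin : Module.Finite k (S ⧸ m) := finite_of_finite_type_of_isJacobsonRing k (S ⧸ m)
  have := h (S ⧸ m) hfin
  let ψ : (S ⧸ m) ⊗[k] S →ₐ[S ⧸ m] (S ⧸ m) :=
    Algebra.TensorProduct.lift (AlgHom.id _ _) (Ideal.Quotient.mkₐ k m) fun _ _ ↦ Commute.all _ _
  let Q := RingHom.ker ψ.toRingHom
  have hψ : Function.Surjective ψ := fun z ↦ ⟨z ⊗ₜ 1, by simp [ψ]⟩
  have : Q.IsMaximal := RingHom.ker_isMaximal_of_surjective _ hψ
  have : IsRegularLocalRing (Localization.AtPrime Q) :=
    IsRegularRing.isRegularLocalRing_localization Q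
  have hbij : Function.Bijective (algebraMap (S ⧸ m) (ResidueField (Localization.AtPrime Q))) := by
    refine ⟨(algebraMap (S ⧸ m) _).injective, fun z ↦ ?_⟩
    obtain ⟨t, rfl⟩ := (Q.bijective_algebraMap_quotient_residueField).2 z
    obtain ⟨t, rfl⟩ := Ideal.Quotient.mk_surjective t
    refine ⟨ψ t, ?_⟩
    have ht : Ideal.Quotient.mk Q (algebraMap (S ⧸ m) _ (ψ t)) = Ideal.Quotient.mk Q t := by
      rw [Ideal.Quotient.eq, RingHom.mem_ker]
      show ψ (algebraMap (S ⧸ m) ((S ⧸ m) ⊗[k] S) (ψ t) - t) = 0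
      rw [map_sub, AlgHom.commutes]
      simp
    rw [← ht]
    rfl
  have : Algebra.FormallySmooth (S ⧸ m) (ResidueField (Localization.AtPrime Q)) :=
    .of_equiv (AlgEquiv.ofBijective (Algebra.ofId _ _) hbij)
  have hsm : Algebra.IsSmoothAt (S ⧸ m) Q := isSmoothAt_of_isRegularLocalRing Q
  have h1 := isSmoothAt_of_baseChange k (S ⧸ m) S Q hsm
  have key : ∀ (I : Ideal S) [I.IsPrime], I = m → Algebra.IsSmoothAt k I →
      Algebra.IsSmoothAt k m := by rintro I _ rfl h; exact h
  refine key _ ?_ h1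
  ext s
  simp [Q, ψ, Ideal.Quotient.eq_zero_iff_mem]

theorem smooth_of_isGeometricallyRegular (k S : Type u) [Field k] [CommRing S] [Algebra k S]
    [Algebra.FinitePresentation k S] (h : CAlg.IsGeometricallyRegular k S) : Algebra.Smooth k S := by
  refine ⟨Algebra.smoothLocus_eq_univ_iff.mp (Set.eq_univ_iff_forall.mpr fun P ↦ ?_), ‹_›⟩
  obtain ⟨m, hm, hPm⟩ := Ideal.exists_le_maximal P.asIdeal P.2.ne_top
  have hmem : (⟨m, hm.isPrime⟩ : PrimeSpectrum S) ∈ Algebra.smoothLocus k S :=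
    isSmoothAt_of_isMaximal k S h m
  exact Specializes.mem_open ((PrimeSpectrum.le_iff_specializes P ⟨m, hm.isPrime⟩).mp hPm)
    Algebra.isOpen_smoothLocus hmem

end GrothLib.LocProp
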