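import Mathlib.RingTheory.Kaehler.JacobiZariski
import Mathlib.RingTheory.Etale.Basic

/-!
# Jacobian criteria in towers
-/

namespace GrothLib.LocProp

open TensorProduct

universe u

variable (A B C : Type u) [CommRing A] [CommRing B] [CommRing C] [Algebra A B] [Algebra B C]
  [Algebra A C] [IsScalarTower A B C] [Algebra.FormallySmooth A C]

theorem injective_mapBaseChange_iff_subsingleton :
    Function.Injective (KaehlerDifferential.mapBaseChange A B C) ↔
      Subsingleton (Algebra.H1Cotangent B C) := by
  constructor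
  · intro h
    refine subsingleton_of_forall_eq 0 fun x ↦ ?_
    have h0 : Algebra.H1Cotangent.δ A B C x = 0 := h (by
      rw [(Algebra.H1Cotangent.exact_δ_mapBaseChange A B C).apply_apply_eq_zero, map_zero])
    obtain ⟨y, hy⟩ := (Algebra.H1Cotangent.exact_map_δ A B C x).mp h0
    rw [← hy, Subsingleton.elim y 0, map_zero]
  · intro h
    rw [injective_iff_map_eq_zero]
    intro x hx
    obtain ⟨y, hy⟩ := (Algebra.H1Cotangent.exact_δ_mapBaseChange A B C x).mp hx
    rw [← hy, Subsingleton.elim y 0, map_zero]

theorem formallyEtale_iff_bijective_mapBaseChange :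
    Algebra.FormallyEtale B C ↔ Function.Bijective (KaehlerDifferential.mapBaseChange A B C) := by
  rw [Algebra.formallyEtale_iff, Function.Bijective, injective_mapBaseChange_iff_subsingleton,
    and_comm]
  refine and_congr_right fun _ ↦ ⟨fun h x ↦ ?_, fun h ↦ ?_⟩
  · exact (KaehlerDifferential.exact_mapBaseChange_map A B C x).mp (Subsingleton.elim _ _)
  · refine subsingleton_of_forall_eq 0 fun x ↦ ?_
    obtain ⟨y, rfl⟩ := KaehlerDifferential.map_surjective A B C x
    obtain ⟨z, rfl⟩ := h y
    exact (KaehlerDifferential.exact_mapBaseChange_map A B C).apply_apply_eq_zero z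

theorem formallySmooth_iff_exists_retraction :
    Algebra.FormallySmooth B C ↔ ∃ r : Ω[C⁄A] →ₗ[C] C ⊗[B] Ω[B⁄A],
      r ∘ₗ KaehlerDifferential.mapBaseChange A B C = LinearMap.id := by
  have hex := KaehlerDifferential.exact_mapBaseChange_map A B C
  have hsurj := KaehlerDifferential.map_surjective A B C
  rw [Algebra.formallySmooth_iff, ← injective_mapBaseChange_iff_subsingleton A B C]
  constructor
  · rintro ⟨hproj, hinj⟩
    obtain ⟨s, hs⟩ := Module.projective_lifting_property (KaehlerDifferential.map A B C C)
      LinearMap.id hsurj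
    exact ((hex.split_tfae hinj hsurj).out 0 1 rfl rfl).mp ⟨s, hs⟩
  · rintro ⟨r, hr⟩
    have hinj : Function.Injective (KaehlerDifferential.mapBaseChange A B C) :=
      Function.HasLeftInverse.injective ⟨r, LinearMap.congr_fun hr⟩
    obtain ⟨s, hs⟩ := ((hex.split_tfae hinj hsurj).out 1 0 rfl rfl).mp ⟨r, hr⟩
    exact ⟨Module.Projective.of_split s (KaehlerDifferential.map A B C C) hs, hinj⟩

end GrothLib.LocProp
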