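import Groth.Agent.Lib.LocProp.EtaleTower
import Mathlib.RingTheory.Etale.Kaehler
import Mathlib.RingTheory.LocalRing.ResidueField.Ideal
import Mathlib.RingTheory.Localization.AtPrime.Basic

/-!
# Fibre criteria in towers
-/

namespace GrothLib.LocProp

open TensorProduct KaehlerDifferential

universe u

theorem injective_lTensor_localization_iff (A B C : Type u) [CommRing A] [CommRing B] [CommRing C]
    [Algebra A B] [Algebra B C] [Algebra A C] [IsScalarTower A B C] (q : Ideal C) [q.IsPrime] :
    Function.Injective ((mapBaseChange A B (Localization.AtPrime q)).lTensor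
        (IsLocalRing.ResidueField (Localization.AtPrime q))) ↔
      Function.Injective ((mapBaseChange A B C).lTensor q.ResidueField) := by
  let K := q.ResidueField
  let Cq := Localization.AtPrime q
  have : Algebra.FormallyEtale C Cq := Algebra.FormallyEtale.of_isLocalization q.primeCompl
  let e₁ : K ⊗[C] (C ⊗[B] Ω[B⁄A]) ≃ₗ[K] K ⊗[Cq] (Cq ⊗[B] Ω[B⁄A]) :=
    (AlgebraTensorModule.cancelBaseChange B C K K _).trans
      (AlgebraTensorModule.cancelBaseChange B Cq K K _).symm
  let e₂ : K ⊗[C] Ω[C⁄A] ≃ₗ[K] K ⊗[Cq] Ω[Cq⁄A] :=
    (AlgebraTensorModule.cancelBaseChange C Cq K K _).symm.trans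
      (LinearEquiv.baseChange Cq K _ _ (tensorKaehlerEquivOfFormallyEtale A C Cq))
  have hcomm : ∀ x, (mapBaseChange A B Cq).lTensor K (e₁ x) = e₂ ((mapBaseChange A B C).lTensor K x) := by
    intro x
    induction x using TensorProduct.induction_on with
    | zero => simp
    | add x y hx hy => simp only [map_add, hx, hy]
    | tmul k y =>
      induction y using TensorProduct.induction_on with
      | zero => simp
      | add x y hx hy => simp only [tmul_add, map_add, hx, hy]
      | tmul c ω =>
        simp only [e₁, e₂, LinearEquiv.trans_apply, AlgebraTensorModule.cancelBaseChange_tmul,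
          AlgebraTensorModule.cancelBaseChange_symm_tmul, LinearMap.lTensor_tmul,
          LinearEquiv.baseChange_tmul, mapBaseChange_tmul, one_smul,
          tensorKaehlerEquivOfFormallyEtale_apply]
        have h1 : KaehlerDifferential.map A A C Cq (c • KaehlerDifferential.map A A B C ω) =
            algebraMap C Cq c • KaehlerDifferential.map A A B Cq ω := by
          rw [map_smul, algebraMap_smul]
          congr 1
          have : ω ∈ Submodule.span B (Set.range (D A B)) := by
            rw [span_range_derivation]; trivial
          induction this using Submodule.span_induction with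
          | mem y hy =>
            obtain ⟨b, rfl⟩ := hy
            simp [← IsScalarTower.algebraMap_apply]
          | zero => simp
          | add y z _ _ hy hz => simp only [map_add, hy, hz]
          | smul b y _ hy =>
            rw [map_smul (KaehlerDifferential.map A A B C) b y, map_smul (KaehlerDifferential.map A A B Cq) b y,
              LinearMap.map_smul_of_tower, hy]
        rw [h1, ← TensorProduct.smul_tmul, algebraMap_smul]
  constructor
  · intro h x y hxy
    apply e₁.injective
    apply h
    rw [hcomm, hcomm, hxy]
  · intro h x y hxy
    obtain ⟨x, rfl⟩ := e₁.surjective x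
    obtain ⟨y, rfl⟩ := e₁.surjective y
    exact congrArg e₁ (h (e₂.injective ((hcomm x).symm.trans (hxy.trans (hcomm y)))))

end GrothLib.LocProp
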