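import Mathlib.RingTheory.Etale.Descent
import Mathlib.RingTheory.Smooth.Locus
import Mathlib.RingTheory.Unramified.Locus
import Mathlib.RingTheory.Extension.Cotangent.BaseChange
import Mathlib.RingTheory.Kaehler.TensorProduct
import Mathlib.RingTheory.Spectrum.Prime.FreeLocus
import Mathlib.RingTheory.Flat.FaithfullyFlat.Descent

/-!
# Pointwise descent of smoothness along flat base change
-/

namespace GrothLib.LocProp

open TensorProduct

universe u

variable (A T B : Type u) [CommRing A] [CommRing T] [CommRing B] [Algebra A T] [Algebra A B]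
  [Module.Flat A T]

attribute [local instance] Algebra.TensorProduct.rightAlgebra

theorem h1Cotangent_not_mem_support (Q : PrimeSpectrum (T ⊗[A] B))
    (hQ : Q ∉ Module.support (T ⊗[A] B) (Algebra.H1Cotangent T (T ⊗[A] B))) :
    PrimeSpectrum.comap (Algebra.TensorProduct.includeRight : B →ₐ[A] T ⊗[A] B).toRingHom Q ∉
      Module.support B (Algebra.H1Cotangent A B) := by
  intro hmem
  obtain ⟨h, hh⟩ := Module.mem_support_iff_exists_annihilator.mp hmem
  rw [Module.notMem_support_iff'] at hQ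
  obtain ⟨c, hcQ, hc⟩ := hQ (Algebra.H1Cotangent.map A T B (T ⊗[A] B) h)
  refine hcQ ?_
  set e := Algebra.tensorH1CotangentOfFlat A B T
  let φ : B →ₗ[B] Algebra.H1Cotangent A B := LinearMap.toSpanSingleton B _ h
  have key : ∀ x : T ⊗[A] B, e ((φ.restrictScalars A).lTensor T x) =
      x • Algebra.H1Cotangent.map A T B (T ⊗[A] B) h := fun x ↦ by
    induction x using TensorProduct.induction_on with
    | zero => simp only [map_zero, zero_smul]
    | tmul t b =>
      rw [LinearMap.lTensor_tmul, LinearMap.restrictScalars_apply, LinearMap.toSpanSingleton_apply,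
        Algebra.tensorH1CotangentOfFlat_tmul, map_smul]
      rw [show (t ⊗ₜ[A] b : T ⊗[A] B) = algebraMap T (T ⊗[A] B) t * algebraMap B (T ⊗[A] B) b by
        simp [RingHom.algebraMap_toAlgebra], mul_smul, algebraMap_smul, algebraMap_smul]
    | add x y hx hy => simp only [map_add, add_smul, hx, hy]
  have hker : (φ.restrictScalars A).lTensor T c = 0 := e.injective (by rw [key, hc, map_zero])
  obtain ⟨z, rfl⟩ := (Module.Flat.lTensor_exact T
    (LinearMap.exact_subtype_ker_map (φ.restrictScalars A))).linearMap_ker_eq.le hker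
  clear hc hcQ hker
  induction z using TensorProduct.induction_on with
  | zero => rw [map_zero]; exact Q.asIdeal.zero_mem
  | tmul t i =>
    rw [LinearMap.lTensor_tmul, Submodule.subtype_apply,
      show (t ⊗ₜ[A] (i : B) : T ⊗[A] B) = algebraMap T (T ⊗[A] B) t *
        (Algebra.TensorProduct.includeRight : B →ₐ[A] T ⊗[A] B) (i : B) by
        simp [RingHom.algebraMap_toAlgebra]]
    have hi : (i : B) ∈ (Submodule.span B {h}).annihilator :=
      (Submodule.mem_annihilator_span_singleton _ _).mpr i.2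
    exact Q.asIdeal.mul_mem_left _ (hh hi)
  | add x y hx hy => rw [map_add]; exact Q.asIdeal.add_mem hx hy

theorem kaehler_mem_freeLocus [Algebra.FinitePresentation A B] (Q : PrimeSpectrum (T ⊗[A] B))
    (hQ : Q ∈ Module.freeLocus (T ⊗[A] B) (Ω[(T ⊗[A] B)⁄T])) :
    PrimeSpectrum.comap (algebraMap B (T ⊗[A] B)) Q ∈ Module.freeLocus B (Ω[B⁄A]) := by
  set C := T ⊗[A] B
  set q := PrimeSpectrum.comap (algebraMap B C) Q
  let Bq := Localization.AtPrime q.asIdeal
  let CQ := Localization.AtPrime Q.asIdeal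
  have : Module.Flat B C :=
    Module.Flat.of_linearEquiv (M := B ⊗[A] T)
      { (Algebra.TensorProduct.comm A T B).toAddEquiv with
        map_smul' := fun b x ↦ by
          simp only [Algebra.smul_def, RingHom.id_apply]
          exact (map_mul (Algebra.TensorProduct.comm A T B) _ x).trans (congrArg (· * _) (by
            simp only [RingHom.algebraMap_toAlgebra]
            exact Algebra.TensorProduct.comm_tmul _ _ _)) }
  have : Q.asIdeal.LiesOver q.asIdeal := ⟨rfl⟩
  let := Localization.AtPrime.algebraOfLiesOver q.asIdeal Q.asIdeal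
  have : Module.Flat B CQ := Module.Flat.trans B C CQ
  have : Module.Flat Bq CQ := by
    rw [Module.flat_iff_of_isLocalization Bq q.asIdeal.primeCompl]
    infer_instance
  have : Module.FaithfullyFlat Bq CQ := .of_flat_of_isLocalHom
  rw [Module.mem_freeLocus_iff_tensor (R := C) (M := Ω[C⁄T]) Q CQ] at hQ
  rw [Module.mem_freeLocus_iff_tensor (R := B) (M := Ω[B⁄A]) q Bq]
  have e : CQ ⊗[Bq] (Bq ⊗[B] Ω[B⁄A]) ≃ₗ[CQ] CQ ⊗[C] Ω[C⁄T] :=
    TensorProduct.AlgebraTensorModule.cancelBaseChange B Bq CQ CQ _ ≪≫ₗ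
      (TensorProduct.AlgebraTensorModule.cancelBaseChange B C CQ CQ _).symm ≪≫ₗ
      TensorProduct.AlgebraTensorModule.congr (.refl CQ CQ)
        (KaehlerDifferential.tensorKaehlerEquiv A T B C)
  have : Module.Free CQ (CQ ⊗[C] Ω[C⁄T]) := hQ
  have : Module.Flat CQ (CQ ⊗[Bq] (Bq ⊗[B] Ω[B⁄A])) := Module.Flat.of_linearEquiv e
  have : Module.Flat Bq (Bq ⊗[B] Ω[B⁄A]) := Module.Flat.of_flat_tensorProduct _ _ CQ
  exact Module.free_of_flat_of_isLocalRing

theorem kaehler_not_mem_support [Algebra.FinitePresentation A B] (Q : PrimeSpectrum (T ⊗[A] B))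
    (hQ : Q ∉ Module.support (T ⊗[A] B) (Ω[(T ⊗[A] B)⁄T])) :
    PrimeSpectrum.comap (algebraMap B (T ⊗[A] B)) Q ∉ Module.support B (Ω[B⁄A]) := by
  set C := T ⊗[A] B
  set q := PrimeSpectrum.comap (algebraMap B C) Q
  let Bq := Localization.AtPrime q.asIdeal
  let CQ := Localization.AtPrime Q.asIdeal
  have : Module.Flat B C :=
    Module.Flat.of_linearEquiv (M := B ⊗[A] T)
      { (Algebra.TensorProduct.comm A T B).toAddEquiv with
        map_smul' := fun b x ↦ by
          simp only [Algebra.smul_def, RingHom.id_apply]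
          exact (map_mul (Algebra.TensorProduct.comm A T B) _ x).trans (congrArg (· * _) (by
            simp only [RingHom.algebraMap_toAlgebra]
            exact Algebra.TensorProduct.comm_tmul _ _ _)) }
  have : Q.asIdeal.LiesOver q.asIdeal := ⟨rfl⟩
  let := Localization.AtPrime.algebraOfLiesOver q.asIdeal Q.asIdeal
  have : Module.Flat B CQ := Module.Flat.trans B C CQ
  have : Module.Flat Bq CQ := by
    rw [Module.flat_iff_of_isLocalization Bq q.asIdeal.primeCompl]
    infer_instance
  have : Module.FaithfullyFlat Bq CQ := .of_flat_of_isLocalHom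
  rw [Module.notMem_support_iff] at hQ ⊢
  have e : CQ ⊗[Bq] (Bq ⊗[B] Ω[B⁄A]) ≃ₗ[CQ] CQ ⊗[C] Ω[C⁄T] :=
    TensorProduct.AlgebraTensorModule.cancelBaseChange B Bq CQ CQ _ ≪≫ₗ
      (TensorProduct.AlgebraTensorModule.cancelBaseChange B C CQ CQ _).symm ≪≫ₗ
      TensorProduct.AlgebraTensorModule.congr (.refl CQ CQ)
        (KaehlerDifferential.tensorKaehlerEquiv A T B C)
  have : Subsingleton (CQ ⊗[C] Ω[C⁄T]) :=
    (IsLocalizedModule.iso Q.asIdeal.primeCompl (TensorProduct.mk C CQ Ω[C⁄T] 1)).symm.subsingleton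
  have : Subsingleton (CQ ⊗[Bq] (Bq ⊗[B] Ω[B⁄A])) := e.subsingleton
  have : Subsingleton (Bq ⊗[B] Ω[B⁄A]) :=
    Module.FaithfullyFlat.lTensor_reflects_triviality Bq CQ _
  exact (IsLocalizedModule.iso q.asIdeal.primeCompl
    (TensorProduct.mk B Bq Ω[B⁄A] 1)).subsingleton

/-- Smoothness at a prime descends along flat base change. -/
theorem isSmoothAt_of_baseChange [Algebra.FinitePresentation A B] (Q : Ideal (T ⊗[A] B))
    [Q.IsPrime] (hQ : Algebra.IsSmoothAt T Q) :
    Algebra.IsSmoothAt A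
      (Q.comap (Algebra.TensorProduct.includeRight : B →ₐ[A] T ⊗[A] B).toRingHom) := by
  have h : (⟨Q, inferInstance⟩ : PrimeSpectrum (T ⊗[A] B)) ∈ Algebra.smoothLocus T (T ⊗[A] B) := hQ
  rw [Algebra.smoothLocus_eq_compl_support_inter] at h
  show PrimeSpectrum.comap (Algebra.TensorProduct.includeRight : B →ₐ[A] T ⊗[A] B).toRingHom
    ⟨Q, inferInstance⟩ ∈ Algebra.smoothLocus A B
  rw [Algebra.smoothLocus_eq_compl_support_inter]
  exact ⟨h1Cotangent_not_mem_support A T B _ h.1, kaehler_mem_freeLocus A T B _ h.2⟩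

/-- Unramifiedness at a prime descends along flat base change. -/
theorem isUnramifiedAt_of_baseChange [Algebra.FinitePresentation A B] (Q : Ideal (T ⊗[A] B))
    [Q.IsPrime] (hQ : Algebra.IsUnramifiedAt T Q) :
    Algebra.IsUnramifiedAt A
      (Q.comap (Algebra.TensorProduct.includeRight : B →ₐ[A] T ⊗[A] B).toRingHom) := by
  have h : (⟨Q, inferInstance⟩ : PrimeSpectrum (T ⊗[A] B)) ∈
      Algebra.unramifiedLocus T (T ⊗[A] B) := hQ
  rw [Algebra.unramifiedLocus_eq_compl_support] at h
  show PrimeSpectrum.comap (Algebra.TensorProduct.includeRight : B →ₐ[A] T ⊗[A] B).toRingHom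
    ⟨Q, inferInstance⟩ ∈ Algebra.unramifiedLocus A B
  rw [Algebra.unramifiedLocus_eq_compl_support]
  exact kaehler_not_mem_support A T B _ h

end GrothLib.LocProp
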