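import Groth.Agent.Lib.LocProp.StalkField

/-!
# Unramified stalk maps via the ring of the fibre
-/

namespace GrothLib.LocProp

open AlgebraicGeometry CategoryTheory IsLocalRing

universe u

theorem quot_props_iff {R S : Type u} [CommRing R] [CommRing S] [IsLocalRing R] [IsLocalRing S]
    [Algebra R S] [IsLocalHom (algebraMap R S)] (J : Ideal S)
    (hle : maximalIdeal R ≤ J.comap (algebraMap R S)) (hJ : J ≤ maximalIdeal S) :
    letI := (Ideal.quotientMap J (algebraMap R S) hle).toAlgebra
    (IsField (S ⧸ J) ∧ Module.Finite (R ⧸ maximalIdeal R) (S ⧸ J) ∧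
        Algebra.IsSeparable (R ⧸ maximalIdeal R) (S ⧸ J)) ↔
      J = maximalIdeal S ∧ Module.Finite (ResidueField R) (ResidueField S) ∧
        Algebra.IsSeparable (ResidueField R) (ResidueField S) := by
  by_cases h : J = maximalIdeal S
  · subst h
    have hfield : IsField (S ⧸ maximalIdeal S) :=
      (Ideal.Quotient.maximal_ideal_iff_isField_quotient _).mp inferInstance
    have key : (Ideal.quotientMap (maximalIdeal S) (algebraMap R S) hle).toAlgebra =
        (inferInstance : Algebra (ResidueField R) (ResidueField S)) := by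
      refine Algebra.algebra_ext _ _ fun a ↦ ?_
      obtain ⟨a, rfl⟩ := Ideal.Quotient.mk_surjective a
      rfl
    simp only [hfield, true_and]
    rw [key]
    rfl
  · simp only [h, false_and, iff_false]
    rintro ⟨hf, -⟩
    exact h (eq_maximalIdeal ((Ideal.Quotient.maximal_ideal_iff_isField_quotient J).mpr hf))

variable {X Y : Scheme.{u}}

set_option backward.isDefEq.respectTransparency false in
/-- Unramified stalk map: the ring of the fibre is a finite separable field extension. -/
theorem formallyUnramified_stalk_iff_quot (f : X ⟶ Y) [LocallyOfFiniteType f] (x : X) :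
    (f.stalkMap x).hom.FormallyUnramified ↔
      letI φ := (f.stalkMap x).hom
      letI 𝔪 := IsLocalRing.maximalIdeal ↑(Y.presheaf.stalk (f.base x))
      letI := (Ideal.quotientMap (𝔪.map φ) φ Ideal.le_comap_map).toAlgebra
      IsField (↑(X.presheaf.stalk x) ⧸ 𝔪.map φ) ∧
        Module.Finite (↑(Y.presheaf.stalk (f.base x)) ⧸ 𝔪) (↑(X.presheaf.stalk x) ⧸ 𝔪.map φ) ∧
        Algebra.IsSeparable (↑(Y.presheaf.stalk (f.base x)) ⧸ 𝔪) (↑(X.presheaf.stalk x) ⧸ 𝔪.map φ) := by
  let : Algebra (Y.presheaf.stalk (f.base x)) (X.presheaf.stalk x) := (f.stalkMap x).hom.toAlgebra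
  have : IsLocalHom (algebraMap (Y.presheaf.stalk (f.base x)) (X.presheaf.stalk x)) :=
    inferInstanceAs <| IsLocalHom (f.stalkMap x).hom
  have h2 := quot_props_iff (R := Y.presheaf.stalk (f.base x)) (S := X.presheaf.stalk x)
    ((maximalIdeal (Y.presheaf.stalk (f.base x))).map (algebraMap _ _)) Ideal.le_comap_map
    (((local_hom_TFAE (algebraMap _ _)).out 0 2 rfl rfl).mp ‹_›)
  refine Iff.trans ?_ h2.symm
  rw [formallyUnramified_stalk_iff]
  have key : (f.residueFieldMap x).hom.toAlgebra =
      (inferInstance : Algebra (ResidueField (Y.presheaf.stalk (f.base x)))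
        (ResidueField (X.presheaf.stalk x))) := by
    refine Algebra.algebra_ext _ _ fun a ↦ ?_
    obtain ⟨a, rfl⟩ := residue_surjective a
    rfl
  rw [key]
  rfl

end GrothLib.LocProp
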